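import Cfsg.Agent.OrthMono.Six.Roots

/-!
# The sign changes are strongly closed in the monomial group, in dimension six

`mono_of_mono_conj`: when no element off the monomial group has a monomial column, an element of `M`
conjugating the sign change at two coordinates to a monomial element is monomial.
-/

set_option autoImplicit false
set_option linter.unusedSectionVars false

namespace CfsgLib.OrthMono

open Matrix Module CfsgLib.Spinor CfsgLib.Forms CfsgLib.OrthMax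

variable {F : Type*} [Field F] [Fintype F] {ι : Type} [Fintype ι] [DecidableEq ι] {Q : QuadraticForm F (ι → F)}

set_option quotPrecheck false in
local notation "𝔅" => QuadraticMap.polar (⇑Q)

namespace Frame

/-- The element moves the lines of the frame by the permutation. -/
def HasPerm {n : ℕ} (f : Frame Q n) (g : Isom Q) (π : Equiv.Perm (Fin n)) : Prop :=
  ∀ i, ∃ a : F, ap g (f.b i) = a • f.b (π i)

section General

variable {n : ℕ} {f : Frame Q n}

theorem Mono.exists_hasPerm {g : Isom Q} (hg : f.Mono g) : ∃ π, f.HasPerm g π := by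
  obtain ⟨π, d, -, h⟩ := hg.exists_perm f
  exact ⟨π, fun i => ⟨d i, h i⟩⟩

theorem HasPerm.mono {g : Isom Q} {π : Equiv.Perm (Fin n)} (h : f.HasPerm g π) : f.Mono g := fun i =>
  ⟨π i, h i⟩

theorem HasPerm.mul {g h : Isom Q} {π σ : Equiv.Perm (Fin n)} (hg : f.HasPerm g π) (hh : f.HasPerm h σ) :
    f.HasPerm (g * h) (π * σ) := fun i => by
  obtain ⟨a, e⟩ := hh i
  obtain ⟨a', e'⟩ := hg (σ i)
  exact ⟨a * a', by rw [ap_mul, e, map_smul, e', smul_smul, Equiv.Perm.mul_apply]⟩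

theorem HasPerm.unique {g : Isom Q} {π σ : Equiv.Perm (Fin n)} (h : f.HasPerm g π) (h' : f.HasPerm g σ) : π = σ :=
  (f.permOf_eq ⟨g, h.mono⟩ h).symm.trans (f.permOf_eq ⟨g, h.mono⟩ h')

theorem hasPerm_one : f.HasPerm 1 1 := fun i => ⟨1, by rw [ap_one, one_smul, Equiv.Perm.one_apply]⟩

theorem hasPerm_flip (U : Finset (Fin n)) : f.HasPerm (f.flip U) 1 := fun i =>
  ⟨_, by rw [f.flip_b, Equiv.Perm.one_apply]⟩

theorem hasPerm_permHom (π : Equiv.Perm (Fin n)) : f.HasPerm (f.permHom π) π := fun i =>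
  ⟨1, by rw [f.permHom_b, one_smul]⟩

theorem HasPerm.exists_flip {g : Isom Q} (h : f.HasPerm g 1) : ∃ V, g = f.flip V :=
  f.exists_flip_of_perm ⟨g, h.mono⟩ (f.permOf_eq _ h)

theorem HasPerm.conj_flip {g : Isom Q} {π : Equiv.Perm (Fin n)} (hg : f.HasPerm g π) (U : Finset (Fin n)) :
    g * f.flip U * g⁻¹ = f.flip (U.image π) := by
  rw [mul_inv_eq_iff_eq_mul]
  refine f.ext_b fun i => ?_
  obtain ⟨a, e⟩ := hg i
  rw [ap_mul, flip_b, map_smul, ap_mul, e, map_smul, flip_b, smul_smul, smul_smul]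
  have hiff : π i ∈ U.image π ↔ i ∈ U := by simp [π.injective.eq_iff]
  simp only [hiff]
  rw [mul_comm]

theorem flip_univ_mul (U : Finset (Fin n)) : f.flip Finset.univ * f.flip U = f.flip Uᶜ := by
  rw [flip_mul]
  congr 1
  ext z
  simp [Finset.mem_symmDiff]

theorem conj_flip_compl {g : Isom Q} {U V : Finset (Fin n)} (h : g * f.flip U * g⁻¹ = f.flip V) :
    g * f.flip Uᶜ * g⁻¹ = f.flip Vᶜ := by
  rw [← f.flip_univ_mul, ← f.flip_univ_mul, ← h]
  have e := (f.commute_flip_univ g).eq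
  rw [← mul_assoc g, ← e]
  group

/-- Three orthogonal anisotropic vectors do not lie in a coordinate plane. -/
theorem false_of_three {p q : Fin n} (hpq : p ≠ q) {u v z : ι → F} (hu : u ∈ f.sub {p, q}) (hv : v ∈ f.sub {p, q})
    (hz : z ∈ f.sub {p, q}) (hu0 : Q u ≠ 0) (hv0 : Q v ≠ 0) (hz0 : Q z ≠ 0) (huv : 𝔅 u v = 0) (huz : 𝔅 u z = 0)
    (hvz : 𝔅 v z = 0) : False :=
  hz0 (by rw [eq_zero_of_pair hpq hu hv hz hu0 hv0 huv huz hvz, QuadraticMap.map_zero])

/-- The reflection swapping a moved pair, signs included. -/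
theorem rf_swap_b {w : Isom Q} (hw2 : w * w = 1) {π : Equiv.Perm (Fin n)} {d : Fin n → F}
    (hd : ∀ i, d i = 1 ∨ d i = -1) (hπ : ∀ i, ap w (f.b i) = d i • f.b (π i)) {a : Fin n} (ha : π a ≠ a) :
    π (π a) = a ∧ d a * d a = 1 ∧ d (π a) = d a ∧
      ap w (f.b a + (-d a) • f.b (π a)) = -(f.b a + (-d a) • f.b (π a)) ∧
      ap w (f.b a + d a • f.b (π a)) = f.b a + d a • f.b (π a) := by
  have hda : d a * d a = 1 := by rcases hd a with e | e <;> rw [e] <;> ring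
  have h2 : ap w (ap w (f.b a)) = f.b a := by rw [← ap_mul, hw2, ap_one]
  rw [hπ, map_smul, hπ, smul_smul] at h2
  have hinv : π (π a) = a := by
    by_contra hne
    have h3 := congrArg (fun v => f.co v a) h2
    simp [f.co_b, if_neg (Ne.symm hne)] at h3
  rw [hinv] at h2
  have h3 := congrArg (fun v => f.co v a) h2
  simp only [map_smul, Pi.smul_apply, f.co_b, if_true, smul_eq_mul, mul_one] at h3
  have hdd : d (π a) = d a := by linear_combination d a * h3 - d (π a) * hda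
  refine ⟨hinv, hda, hdd, ?_, ?_⟩
  · rw [map_add, map_smul, hπ, hπ, hinv, hdd, smul_smul, neg_mul, hda]
    module
  · rw [map_add, map_smul, hπ, hπ, hinv, hdd, smul_smul, hda]
    module

theorem co_b_ne {a z : Fin n} (h : z ≠ a) : f.co (f.b a) z = 0 := by rw [f.co_b, if_neg h]

theorem polar_roots {a a' c c' : Fin n} (h1 : a ≠ c) (h2 : a ≠ c') (h3 : a' ≠ c) (h4 : a' ≠ c') (s t : F) :
    𝔅 (f.b a + s • f.b a') (f.b c + t • f.b c') = 0 := by
  simp [QuadraticMap.polar_add_left, QuadraticMap.polar_add_right, f.orth a c h1, f.orth a c' h2, f.orth a' c h3,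
    f.orth a' c' h4]

end General

variable {f : Frame Q 6} {M : Subgroup (Isom Q)} (hM : f.HasMono M) (hH : f.NoCol M) (hMΩ : M ≤ Cfsg.Omega F ⇑Q)
include hM hH

/-- Conjugating a sign change to a sign change is monomial. -/
theorem mono_of_conj_flip {g : Isom Q} (hg : g ∈ M) {U V : Finset (Fin 6)} (hU : U.card = 2 ∨ U.card = 4)
    (h : g * f.flip U * g⁻¹ = f.flip V) : f.Mono g := by
  classical
  wlog hU2 : U.card = 2 generalizing U V
  · refine this (Or.inl ?_) (conj_flip_compl h) ?_ <;> rw [Finset.card_compl, Fintype.card_fin] <;> omega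
  obtain ⟨k, l, hkl, hUkl⟩ := Finset.card_eq_two.1 hU2
  subst hUkl
  obtain ⟨p, q, hpq, hV⟩ := Finset.card_eq_two.1 ((f.card_eq_of_conj h).symm.trans hU2)
  subst hV
  obtain ⟨π, hπp, hπq, hπ1⟩ : ∃ π : Equiv.Perm (Fin 6),
      ({π p, π q} : Finset (Fin 6)) = {k, l} ∧ True ∧ Equiv.Perm.sign π = 1 := by
    obtain ⟨π₀, hπ₀⟩ : ∃ π₀, π₀ = Equiv.swap (Equiv.swap p k q) l * Equiv.swap p k := ⟨_, rfl⟩
    have e1 : π₀ p = k := by
      rw [hπ₀, Equiv.Perm.mul_apply, Equiv.swap_apply_left, Equiv.swap_apply_of_ne_of_ne ?_ hkl]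
      intro e
      exact hpq ((Equiv.swap p k).injective ((Equiv.swap_apply_left p k).trans e))
    have e2 : π₀ q = l := by rw [hπ₀, Equiv.Perm.mul_apply, Equiv.swap_apply_left]
    rcases Int.units_eq_one_or (Equiv.Perm.sign π₀) with e | e
    · exact ⟨π₀, by rw [e1, e2], trivial, e⟩
    · refine ⟨Equiv.swap k l * π₀, ?_, trivial, by rw [map_mul, e, Equiv.Perm.sign_swap hkl]; rfl⟩
      rw [Equiv.Perm.mul_apply, Equiv.Perm.mul_apply, e1, e2, Equiv.swap_apply_left, Equiv.swap_apply_right,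
        Finset.pair_comm]
  obtain ⟨h', hh'⟩ : ∃ h', h' = f.permHom π := ⟨_, rfl⟩
  have hh'M : h' ∈ M := hh' ▸ hM.perm_mem hπ1
  have hc : (h' * g) * f.flip {k, l} * (h' * g)⁻¹ = f.flip {k, l} := by
    rw [show (h' * g) * f.flip {k, l} * (h' * g)⁻¹ = h' * (g * f.flip {k, l} * g⁻¹) * h'⁻¹ by group, h, hh',
      (hasPerm_permHom π).conj_flip, Finset.image_insert, Finset.image_singleton, hπp]
  have hm := mono_of_commute_pair hM hH (by norm_num) (M.mul_mem hh'M hg) hkl (mul_inv_eq_iff_eq_mul.1 hc)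
  have e : g = h'⁻¹ * (h' * g) := by group
  rw [e]
  exact Mono.mul f (Mono.inv f (hh' ▸ f.mono_permHom π)) hm

omit hM in
/-- The image of a root outside the plane of a conjugate of a sign change has support at most two. -/
theorem root_image {g : Isom Q} (hg : g ∈ M) {i j : Fin 6} (hij : i ≠ j) (hMP : ∀ k ∈ M,
      k * f.flip {i, j} = f.flip {i, j} * k → f.Mono k)
    {w : Isom Q} (hwe : f.flip {i, j} * g = g * w) {x ρ : ι → F} (hx : ap w x = -x) (hρ : ap w ρ = ρ)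
    (hρ0 : Q ρ ≠ 0) (hk : (rf x : Isom Q) * rf ρ ∈ M) :
    (f.supp (ap g ρ)).card ≤ 2 ∧ ∀ l ∈ ({i, j} : Finset (Fin 6)), f.co (ap g ρ) l = 0 := by
  classical
  have hgx : ap (f.flip {i, j}) (ap g x) = -ap g x := by rw [← ap_mul, hwe, ap_mul, hx, map_neg]
  have hgρ : ap (f.flip {i, j}) (ap g ρ) = ap g ρ := by rw [← ap_mul, hwe, ap_mul, hρ]
  have hzero := ap_flip_eq_self_iff.1 hgρ
  obtain ⟨k, hke⟩ : ∃ k, k = (rf (ap g x) : Isom Q) * rf (ap g ρ) := ⟨_, rfl⟩
  have hkM : k ∈ M := by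
    have e : k = g * ((rf x : Isom Q) * rf ρ) * g⁻¹ := by rw [hke, ← conj_rf, ← conj_rf]; group
    rw [e]
    exact M.mul_mem (M.mul_mem hg hk) (M.inv_mem hg)
  have hkm : f.Mono k := hMP k hkM (by
    rw [hke, mul_assoc, ← rf_comm (Or.inl hgρ), ← mul_assoc, ← rf_comm (Or.inr hgx), mul_assoc])
  refine ⟨supp_le_two_of_mono_rf (by rwa [quad_ap]) fun m => ?_, hzero⟩
  by_cases hm : m ∈ ({i, j} : Finset (Fin 6))
  · exact ⟨m, 1, by rw [ap_rf_of_perp (by rw [f.polar_b_right, hzero m hm, mul_zero]), one_smul]⟩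
  · obtain ⟨m', a, e⟩ := hkm m
    refine ⟨m', a, ?_⟩
    rw [← e, hke, ap_mul, ap_rf_of_perp (v := ap g x)]
    have hy : ap (f.flip {i, j}) (ap (rf (ap g ρ) : Isom Q) (f.b m)) = ap (rf (ap g ρ) : Isom Q) (f.b m) := by
      rw [← ap_mul, rf_comm (Or.inl hgρ), ap_mul, flip_b, if_neg hm, one_smul]
    rw [f.polar_eq_zero_iff]
    exact dot_eq_zero_of_zeros (f.mem_sub_iff_flip.2 hgx) (ap_flip_eq_self_iff.1 hy)

include hMΩ

/-- Conjugating a sign change at two coordinates to a monomial element is monomial. -/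
theorem mono_of_mono_conj {g : Isom Q} (hg : g ∈ M) {i j : Fin 6} (hij : i ≠ j)
    (hw : f.Mono (g⁻¹ * f.flip {i, j} * g)) : f.Mono g := by
  classical
  obtain ⟨w, hwdef⟩ : ∃ w, w = g⁻¹ * f.flip {i, j} * g := ⟨_, rfl⟩
  rw [← hwdef] at hw
  have hwM : w ∈ M := hwdef ▸ M.mul_mem (M.mul_mem (M.inv_mem hg) (flip_mem hM (by rw [Finset.card_pair hij]; decide))) hg
  have hwe : f.flip {i, j} * g = g * w := by rw [hwdef]; group
  have hwconj : g * w * g⁻¹ = f.flip {i, j} := by rw [← hwe, mul_inv_cancel_right]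
  have hw2 : w * w = 1 := by
    rw [hwdef, show g⁻¹ * f.flip {i, j} * g * (g⁻¹ * f.flip {i, j} * g) =
      g⁻¹ * (f.flip {i, j} * f.flip {i, j}) * g by group, f.flip_mul_self, mul_one, inv_mul_cancel]
  have hneg : ∀ x, ap w x = -x → ap g x ∈ f.sub {i, j} := fun x hx => by
    rw [f.mem_sub_iff_flip, ← ap_mul, hwe, ap_mul, hx, map_neg]
  obtain ⟨π, d, hd, hπ⟩ := hw.exists_perm f
  by_cases hone : π = 1
  · obtain ⟨V, hV⟩ := HasPerm.exists_flip (f := f) (g := w) fun z => ⟨d z, by rw [hπ, hone]⟩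
    rw [hV] at hwconj
    exact mono_of_conj_flip hM hH hg (Or.inl (by rw [f.card_eq_of_conj hwconj, Finset.card_pair hij])) hwconj
  obtain ⟨a, ha⟩ : ∃ a, π a ≠ a := by
    by_contra h
    push Not at h
    exact hone (Equiv.ext h)
  obtain ⟨hπa, hda, hdaa, hxa, hya⟩ := rf_swap_b hw2 hd hπ ha
  have hMP : ∀ k ∈ M, k * f.flip {i, j} = f.flip {i, j} * k → f.Mono k :=
    fun k hk hc => mono_of_commute_pair hM hH (by norm_num) hk hij hc
  have hdan : (-d a) * (-d a) = 1 := by rw [neg_mul_neg, hda]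
  obtain ⟨r, hr⟩ : ∃ r, r = f.b a + (-d a) • f.b (π a) := ⟨_, rfl⟩
  have hrQ : Q r = 2 * f.c := hr ▸ quad_add_smul_b (Ne.symm ha) hdan
  have hrm : f.Mono (rf r : Isom Q) := hr ▸ mono_rf_add_smul (Ne.symm ha) hdan
  rw [← hr] at hxa
  -- the vectors fixed by a pair of signs
  have hfix_eq : ∀ {o}, π o = o → ap w (f.b o) = d o • f.b o := fun {o} ho => by rw [hπ, ho]
  have hd0 : ∀ {o}, π o = o → d o = -1 → ap w (f.b o) = -f.b o := fun {o} ho e => by
    rw [hfix_eq ho, e, neg_one_smul]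
  have hd1 : ∀ {o}, π o = o → d o = 1 → ap w (f.b o) = f.b o := fun {o} ho e => by
    rw [hfix_eq ho, e, one_smul]
  -- two roots and their difference give the sign change
  have finish : ∀ (U₀ : Finset (Fin 6)) (ρ₁ ρ₂ : ι → F), (U₀.card = 2 ∨ U₀.card = 4) →
      Q ρ₁ ≠ 0 → Q ρ₂ ≠ 0 → 𝔅 ρ₁ ρ₂ = 0 →
      (f.supp (ap g ρ₁)).card ≤ 2 → (f.supp (ap g ρ₂)).card ≤ 2 → (f.supp (ap g (ρ₁ - ρ₂))).card ≤ 2 →
      ((rf ρ₁ : Isom Q) * rf ρ₂ * w = f.flip U₀ ∨ (rf ρ₁ : Isom Q) * rf ρ₂ = f.flip U₀) → f.Mono g := by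
    intro U₀ ρ₁ ρ₂ hU₀ h1 h2 h12 s1 s2 s3 hflip
    have g12 : 𝔅 (ap g ρ₁) (ap g ρ₂) = 0 := by rw [polar_ap, h12]
    rw [map_sub] at s3
    have hu := card_union_le_two g12 s1 s2 s3
    obtain ⟨V, hVsub, hV⟩ : ∃ V, f.supp (ap g ρ₁) ∪ f.supp (ap g ρ₂) ⊆ V ∧ V.card = 2 := by
      obtain ⟨V, h1', -, h2'⟩ := Finset.exists_subsuperset_card_eq (n := 2)
        (Finset.subset_univ (f.supp (ap g ρ₁) ∪ f.supp (ap g ρ₂))) hu (by simp)
      exact ⟨V, h1', h2'⟩
    obtain ⟨p, q, hpq, rfl⟩ := Finset.card_eq_two.1 hV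
    have hmem : ∀ x, f.supp x ⊆ {p, q} → x ∈ f.sub {p, q} := fun x hx z hz =>
      f.notMem_supp.1 fun h => hz (hx h)
    have e := rf_mul_rf_eq_flip hpq (hmem _ (Finset.subset_union_left.trans hVsub))
      (hmem _ (Finset.subset_union_right.trans hVsub)) (by rwa [quad_ap]) (by rwa [quad_ap]) g12
    have e' : g * ((rf ρ₁ : Isom Q) * rf ρ₂) * g⁻¹ = f.flip {p, q} := by
      rw [← e, ← conj_rf, ← conj_rf]; group
    rcases hflip with hf | hf
    · refine mono_of_conj_flip hM hH hg (V := symmDiff {p, q} {i, j}) hU₀ ?_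
      rw [← hf, ← f.flip_mul, ← e', ← hwconj]
      group
    · exact mono_of_conj_flip hM hH hg (V := {p, q}) hU₀ (by rw [← hf, e'])
  by_cases htwo : ∃ c, c ≠ a ∧ c ≠ π a ∧ π c ≠ c
  · obtain ⟨c, hca, hcb, hc⟩ := htwo
    obtain ⟨hπc, hdc, hdcc, hxc, hyc⟩ := rf_swap_b hw2 hd hπ hc
    have hdcn : (-d c) * (-d c) = 1 := by rw [neg_mul_neg, hdc]
    obtain ⟨r', hr'⟩ : ∃ r', r' = f.b c + (-d c) • f.b (π c) := ⟨_, rfl⟩
    have hr'Q : Q r' = 2 * f.c := hr' ▸ quad_add_smul_b (Ne.symm hc) hdcn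
    rw [← hr'] at hxc
    have hca' : π c ≠ a := fun e => hcb (by rw [← e, hπc])
    have hcb' : π c ≠ π a := fun e => hca (π.injective e)
    have hrr' : 𝔅 r r' = 0 := hr ▸ hr' ▸ polar_roots (Ne.symm hca) (Ne.symm hca') (Ne.symm hcb) (Ne.symm hcb') _ _
    obtain ⟨o, o', hoo, hout⟩ : ∃ o o', o ≠ o' ∧
        Finset.univ \ ({a, π a, c, π c} : Finset (Fin 6)) = {o, o'} := by
      refine Finset.card_eq_two.1 ?_
      rw [Finset.card_univ_sdiff, Finset.card_insert_of_notMem (by simp [Ne.symm ha, Ne.symm hca, Ne.symm hca']),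
        Finset.card_insert_of_notMem (by simp [Ne.symm hcb, Ne.symm hcb']), Finset.card_pair (Ne.symm hc)]
      rfl
    have hmem : ∀ z, (z = o ∨ z = o') ↔ z ≠ a ∧ z ≠ π a ∧ z ≠ c ∧ z ≠ π c := fun z => by
      have := congrArg (fun S : Finset (Fin 6) => z ∈ S) hout
      simp only [Finset.mem_sdiff, Finset.mem_univ, true_and, Finset.mem_insert, Finset.mem_singleton, not_or,
        eq_iff_iff] at this
      exact this.symm
    obtain ⟨ho1, ho2, ho3, ho4⟩ := (hmem o).1 (Or.inl rfl)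
    obtain ⟨ho1', ho2', ho3', ho4'⟩ := (hmem o').1 (Or.inr rfl)
    -- the two other coordinates are fixed
    have hwprod : ∀ {z}, (z = o ∨ z = o') → π z = o ∨ π z = o' := fun {z} hz => by
      obtain ⟨h1, h2, h3, h4⟩ := (hmem z).1 hz
      exact (hmem _).2 ⟨fun e => h2 (π.injective (e.trans hπa.symm)), fun e => h1 (π.injective e),
        fun e => h4 (π.injective (e.trans hπc.symm)), fun e => h3 (π.injective e)⟩
    have hrfab : ∀ z, ap ((rf r : Isom Q) * rf r') (f.b z) =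
        if z = a ∨ z = π a ∨ z = c ∨ z = π c then d z • f.b (π z) else f.b z := by
      intro z
      obtain ⟨r1, r2, r3⟩ := rf_add_smul_b_b (f := f) (Ne.symm ha) hdan
      obtain ⟨r1', r2', r3'⟩ := rf_add_smul_b_b (f := f) (Ne.symm hc) hdcn
      rw [← hr] at r1 r2 r3
      rw [← hr'] at r1' r2' r3'
      rw [neg_neg] at r1 r2 r1' r2'
      rw [ap_mul]
      rcases eq_or_ne z a with rfl | h1
      · rw [if_pos (by simp), r3' z (Ne.symm hca) (Ne.symm hca'), r1]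
      rcases eq_or_ne z (π a) with rfl | h2
      · rw [if_pos (by simp), r3' _ (Ne.symm hcb) (Ne.symm hcb'), r2, hdaa, hπa]
      rcases eq_or_ne z c with rfl | h3
      · rw [if_pos (by simp), r1', map_smul, r3 _ hca' hcb']
      rcases eq_or_ne z (π c) with rfl | h4
      · rw [if_pos (by simp), r2', map_smul, r3 _ hca hcb, hdcc, hπc]
      rw [if_neg (by simp [h1, h2, h3, h4]), r3' z h3 h4, r3 z h1 h2]
    have hπo : π o = o := by
      by_contra h
      have he : π o = o' := (hwprod (Or.inl rfl)).resolve_left h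
      obtain ⟨hπo, hdo, hdoo, -, -⟩ := rf_swap_b hw2 hd hπ h
      obtain ⟨r1, r2, r3⟩ := rf_add_smul_b_b (f := f) hoo (s := -d o) (by rw [neg_mul_neg, hdo])
      rw [neg_neg] at r1 r2
      have hw3 : w = rf (f.b o + (-d o) • f.b o') * ((rf r : Isom Q) * rf r') := f.ext_b fun z => by
        rw [ap_mul, hrfab, hπ]
        split_ifs with hz
        · rw [map_smul, r3]
          · intro e
            obtain ⟨q1, q2, q3, q4⟩ := (hmem (π z)).1 (Or.inl e)
            rcases hz with rfl | rfl | rfl | rfl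
            exacts [q2 rfl, q1 hπa, q4 rfl, q3 hπc]
          · intro e
            obtain ⟨q1, q2, q3, q4⟩ := (hmem (π z)).1 (Or.inr e)
            rcases hz with rfl | rfl | rfl | rfl
            exacts [q2 rfl, q1 hπa, q4 rfl, q3 hπc]
        · simp only [not_or] at hz
          rcases (hmem z).2 ⟨hz.1, hz.2.1, hz.2.2.1, hz.2.2.2⟩ with rfl | rfl
          · rw [he, r1]
          · rw [← he, hdoo, hπo, he, r2]
      have hdet := det_of_omega (hMΩ hwM)
      rw [hw3, mat_mul, mat_mul, Matrix.det_mul, Matrix.det_mul, det_rf (v := r) (hrQ ▸ f.two_c),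
        det_rf (v := r') (hr'Q ▸ f.two_c), det_rf (v := f.b o + (-d o) • f.b o')
          (quad_add_smul_b (f := f) hoo (s := -d o) (by rw [neg_mul_neg, hdo]) ▸ f.two_c)] at hdet
      exact f.two (by linear_combination -hdet)
    have hπo' : π o' = o' := (hwprod (Or.inr rfl)).resolve_left fun e => hoo (π.injective (hπo.trans e.symm))
    obtain ⟨T, hT⟩ : ∃ T : Finset (Fin 6), T = ({o, o'} : Finset (Fin 6)).filter fun z => d z = -1 := ⟨_, rfl⟩
    have hne1 : (1 : F) ≠ -1 := fun e => f.two (by linear_combination e)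
    have hwT : w = (rf r : Isom Q) * rf r' * f.flip T := f.ext_b fun z => by
      rw [ap_mul ((rf r : Isom Q) * rf r'), flip_b, map_smul, hrfab, hπ]
      by_cases hz : z = a ∨ z = π a ∨ z = c ∨ z = π c
      · rw [if_pos hz, if_neg, one_smul]
        rw [hT, Finset.mem_filter, Finset.mem_insert, Finset.mem_singleton]
        rintro ⟨h, -⟩
        obtain ⟨q1, q2, q3, q4⟩ := (hmem z).1 h
        simp [q1, q2, q3, q4] at hz
      · rw [if_neg hz]
        simp only [not_or] at hz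
        have hz' := (hmem z).2 ⟨hz.1, hz.2.1, hz.2.2.1, hz.2.2.2⟩
        have hfz : π z = z := by rcases hz' with rfl | rfl <;> assumption
        rw [hfz]
        congr 1
        rcases hd z with e | e <;> simp [hT, hz', e, hne1]
    have hTeven : Even T.card := by
      refine even_of_flip_mem hMΩ (f := f) ?_
      have hrr : (rf r : Isom Q) * rf r' ∈ M := hM _ (rf_mul_mem_omega f.nondeg f.two (hrQ ▸ f.two_c) (hr'Q.trans hrQ.symm))
        (Mono.mul f hrm (hr' ▸ mono_rf_add_smul (Ne.symm hc) hdcn))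
      have e : f.flip T = ((rf r : Isom Q) * rf r')⁻¹ * w := by rw [hwT, inv_mul_cancel_left]
      rw [e]
      exact M.mul_mem (M.inv_mem hrr) hwM
    have hdo : ∀ z, z = o ∨ z = o' → d z = 1 := by
      by_contra hcon
      push Not at hcon
      obtain ⟨z, hz, hdz⟩ := hcon
      have hdz' := (hd z).resolve_left hdz
      obtain ⟨h1, h2, h3, h4⟩ := (hmem z).1 hz
      have hzf : π z = z := by rcases hz with rfl | rfl <;> assumption
      refine false_of_three (f := f) hij (hneg _ hxa) (hneg _ hxc) (hneg _ (hd0 hzf hdz'))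
        (by rw [quad_ap, hrQ]; exact f.two_c) (by rw [quad_ap, hr'Q]; exact f.two_c) (by rw [quad_ap]; exact f.quad_ne z)
        (by rw [polar_ap, hrr']) (by rw [polar_ap, hr]; simp [QuadraticMap.polar_add_left, f.orth a z (Ne.symm h1),
          f.orth (π a) z (Ne.symm h2)]) (by rw [polar_ap, hr']; simp [QuadraticMap.polar_add_left,
          f.orth c z (Ne.symm h3), f.orth (π c) z (Ne.symm h4)])
    have hT0 : T = ∅ := by
      rw [hT, Finset.filter_eq_empty_iff]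
      intro z hz
      simp only [Finset.mem_insert, Finset.mem_singleton] at hz
      rw [hdo z hz]
      exact hne1
    rw [hT0, flip_empty, mul_one] at hwT
    obtain ⟨ρ₁, hρ₁⟩ : ∃ ρ, ρ = f.b a + d a • f.b (π a) := ⟨_, rfl⟩
    obtain ⟨ρ₂, hρ₂⟩ : ∃ ρ, ρ = f.b c + d c • f.b (π c) := ⟨_, rfl⟩
    rw [← hρ₁] at hya
    rw [← hρ₂] at hyc
    have hq1 : Q ρ₁ = 2 * f.c := hρ₁ ▸ quad_add_smul_b (Ne.symm ha) hda
    have hq2 : Q ρ₂ = 2 * f.c := hρ₂ ▸ quad_add_smul_b (Ne.symm hc) hdc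
    have hm1 : f.Mono (rf ρ₁ : Isom Q) := hρ₁ ▸ mono_rf_add_smul (Ne.symm ha) hda
    have hm2 : f.Mono (rf ρ₂ : Isom Q) := hρ₂ ▸ mono_rf_add_smul (Ne.symm hc) hdc
    have h12 : 𝔅 ρ₁ ρ₂ = 0 :=
      hρ₁ ▸ hρ₂ ▸ polar_roots (Ne.symm hca) (Ne.symm hca') (Ne.symm hcb) (Ne.symm hcb') _ _
    have hk : ∀ ρ, Q ρ = 2 * f.c → f.Mono (rf ρ : Isom Q) → (rf r : Isom Q) * rf ρ ∈ M := fun ρ hρ hmρ =>
      hM _ (rf_mul_mem_omega f.nondeg f.two (hrQ ▸ f.two_c) (hρ.trans hrQ.symm)) (Mono.mul f hrm hmρ)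
    have s1 := (root_image hH hg hij hMP hwe hxa hya (hq1 ▸ f.two_c) (hk ρ₁ hq1 hm1)).1
    have s2 := (root_image hH hg hij hMP hwe hxa hyc (hq2 ▸ f.two_c) (hk ρ₂ hq2 hm2)).1
    -- the rotation in the difference
    obtain ⟨x, hx⟩ : ∃ x, x = f.b a + (-1 : F) • f.b c := ⟨_, rfl⟩
    obtain ⟨y, hy⟩ : ∃ y, y = d a • f.b (π a) + (-d c) • f.b (π c) := ⟨_, rfl⟩
    have hxq : Q x = 2 * f.c := hx ▸ quad_add_smul_b (Ne.symm hca) (by ring)
    have hxy : 𝔅 x y = 0 := by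
      rw [hx, hy]
      simp [QuadraticMap.polar_add_left, QuadraticMap.polar_add_right, f.orth a (π a) (Ne.symm ha),
        f.orth a (π c) (Ne.symm hca'), f.orth c (π a) hcb, f.orth c (π c) (Ne.symm hc)]
    have hys : y = d a • (f.b (π a) + (-(d a * d c)) • f.b (π c)) := by
      rw [hy, smul_add, smul_smul, mul_neg, ← mul_assoc, hda, one_mul]
    have hys1 : (-(d a * d c)) * (-(d a * d c)) = 1 := by linear_combination d c * d c * hda + hdc
    have hyq : Q y = Q x := by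
      rw [hys, QuadraticMap.map_smul, quad_add_smul_b (Ne.symm hcb') hys1, hxq, smul_eq_mul, hda, one_mul]
    have hym : f.Mono (rf y : Isom Q) := by
      rw [hys, rf_smul (fun e => by rw [e, mul_zero] at hda; exact zero_ne_one hda)]
      exact mono_rf_add_smul (Ne.symm hcb') hys1
    have hsum : ρ₁ - ρ₂ = x + y := by rw [hρ₁, hρ₂, hx, hy]; module
    have hdiff : r - r' = x - y := by rw [hr, hr', hx, hy]; module
    have hk3 : (rf (r - r') : Isom Q) * rf (ρ₁ - ρ₂) ∈ M := by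
      rw [hsum, hdiff]
      have e := rf_rot f.two (hxq ▸ f.two_c) hyq hxy
      have hmem' : (rf x : Isom Q) * rf y ∈ M := hM _ (rf_mul_mem_omega f.nondeg f.two (hxq ▸ f.two_c) hyq)
        (Mono.mul f (hx ▸ mono_rf_add_smul (Ne.symm hca) (by ring)) hym)
      have h' : (rf (x - y) : Isom Q) * rf (x + y) = ((rf (x + y) : Isom Q) * rf (x - y))⁻¹ := by
        rw [_root_.mul_inv_rev, rf_inv, rf_inv]
      rw [h', e]
      exact M.inv_mem hmem'
    have s3 := (root_image hH hg hij hMP hwe (x := r - r') (ρ := ρ₁ - ρ₂) (by rw [map_sub, hxa, hxc]; module)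
      (by rw [map_sub, hya, hyc]) (by
        rw [sub_eq_add_neg, QuadraticMap.map_add (⇑Q), QuadraticMap.map_neg, QuadraticMap.polar_neg_right, h12, hq1,
          hq2, neg_zero, add_zero, ← two_mul]
        exact mul_ne_zero f.two f.two_c) hk3).1
    refine finish {a, π a, c, π c} ρ₁ ρ₂ (Or.inr ?_) (hq1 ▸ f.two_c) (hq2 ▸ f.two_c) h12 s1 s2 s3 (Or.inl ?_)
    · rw [Finset.card_insert_of_notMem (by simp [Ne.symm ha, Ne.symm hca, Ne.symm hca']),
        Finset.card_insert_of_notMem (by simp [Ne.symm hcb, Ne.symm hcb']), Finset.card_pair (Ne.symm hc)]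
    have hcomm : (rf ρ₂ : Isom Q) * rf r = rf r * rf ρ₂ := rf_comm (Or.inl (ap_rf_of_perp (by
      rw [QuadraticMap.polar_comm, hr, hρ₂]
      exact polar_roots (Ne.symm hca) (Ne.symm hca') (Ne.symm hcb) (Ne.symm hcb') _ _)))
    have hin : ∀ {p p' : Fin 6} (t : F), f.b p + t • f.b p' ∈ f.sub {p, p'} := fun t =>
      Submodule.add_mem _ (f.b_mem_sub _ (by simp)) (Submodule.smul_mem _ _ (f.b_mem_sub _ (by simp)))
    have hpolar : ∀ {p p' : Fin 6} {t : F}, p ≠ p' → t * t = 1 →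
        𝔅 (f.b p + t • f.b p') (f.b p + (-t) • f.b p') = 0 := fun {p p' t} h ht => by
      simp [QuadraticMap.polar_add_left, QuadraticMap.polar_add_right, f.polar_b, h, Ne.symm h]
      linear_combination -(2 * f.c) * ht
    rw [hwT, show (rf ρ₁ : Isom Q) * rf ρ₂ * (rf r * rf r') = rf ρ₁ * (rf ρ₂ * rf r) * rf r' by group, hcomm,
      show (rf ρ₁ : Isom Q) * (rf r * rf ρ₂) * rf r' = (rf ρ₁ * rf r) * (rf ρ₂ * rf r') by group,
      rf_mul_rf_eq_flip (Ne.symm ha) (hρ₁ ▸ hin _) (hr ▸ hin _) (hq1 ▸ f.two_c) (hrQ ▸ f.two_c)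
        (hρ₁ ▸ hr ▸ hpolar (Ne.symm ha) hda),
      rf_mul_rf_eq_flip (Ne.symm hc) (hρ₂ ▸ hin _) (hr' ▸ hin _) (hq2 ▸ f.two_c) (hr'Q ▸ f.two_c)
        (hρ₂ ▸ hr' ▸ hpolar (Ne.symm hc) hdc), f.flip_mul]
    congr 1
    ext z
    simp only [Finset.mem_symmDiff, Finset.mem_insert, Finset.mem_singleton]
    constructor
    · rintro (⟨h | h, -⟩ | ⟨h | h, -⟩) <;> simp [h]
    · rintro (h | h | h | h) <;> subst h
      · exact Or.inl ⟨Or.inl rfl, not_or.2 ⟨Ne.symm hca, Ne.symm hca'⟩⟩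
      · exact Or.inl ⟨Or.inr rfl, not_or.2 ⟨Ne.symm hcb, Ne.symm hcb'⟩⟩
      · exact Or.inr ⟨Or.inl rfl, not_or.2 ⟨hca, hcb⟩⟩
      · exact Or.inr ⟨Or.inr rfl, not_or.2 ⟨hca', hcb'⟩⟩
  -- one moved pair
  push Not at htwo
  obtain ⟨R, hR⟩ : ∃ R : Finset (Fin 6), R = Finset.univ \ {a, π a} := ⟨_, rfl⟩
  have hRcard : R.card = 4 := by rw [hR, Finset.card_univ_sdiff, Finset.card_pair (Ne.symm ha)]; rfl
  have hRf : ∀ z ∈ R, z ≠ a ∧ z ≠ π a ∧ π z = z := fun z hz => by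
    simp only [hR, Finset.mem_sdiff, Finset.mem_univ, true_and, Finset.mem_insert, Finset.mem_singleton, not_or] at hz
    exact ⟨hz.1, hz.2, htwo z hz.1 hz.2⟩
  obtain ⟨T, hT⟩ : ∃ T : Finset (Fin 6), T = R.filter fun z => d z = -1 := ⟨_, rfl⟩
  have hTR : ∀ z ∈ T, z ∈ R ∧ d z = -1 := fun z hz => by rwa [hT, Finset.mem_filter] at hz
  obtain ⟨r1, r2, r3⟩ := rf_add_smul_b_b (f := f) (Ne.symm ha) hdan
  rw [← hr] at r1 r2 r3
  rw [neg_neg] at r1 r2
  have hwT : w = (rf r : Isom Q) * f.flip T := f.ext_b fun z => by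
    have hne1 : (1 : F) ≠ -1 := fun e => f.two (by linear_combination e)
    rw [ap_mul, flip_b, map_smul, hπ]
    rcases eq_or_ne z a with rfl | h1
    · rw [if_neg fun h => (hRf _ (hTR _ h).1).1 rfl, one_smul, r1]
    rcases eq_or_ne z (π a) with rfl | h2
    · rw [if_neg fun h => (hRf _ (hTR _ h).1).2.1 rfl, one_smul, r2, hdaa, hπa]
    rw [r3 z h1 h2, htwo z h1 h2]
    congr 1
    have hzR : z ∈ R := by simp [hR, h1, h2]
    rcases hd z with e | e <;> simp [hT, hzR, e, hne1]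
  have hTodd : Odd T.card := by
    by_contra h
    have hdet := det_of_omega (hMΩ hwM)
    rw [hwT, mat_mul, Matrix.det_mul, det_rf (hrQ ▸ f.two_c), det_flip, (Nat.not_odd_iff_even.1 h).neg_one_pow] at hdet
    exact f.two (by linear_combination -hdet)
  obtain ⟨m, hm⟩ := Finset.card_pos.1 hTodd.pos
  obtain ⟨hmR, hdm⟩ := hTR m hm
  obtain ⟨hma, hmb, hmf⟩ := hRf m hmR
  have hrm' : ∀ {z}, z ≠ a → z ≠ π a → 𝔅 r (f.b z) = 0 := fun {z} h1 h2 => by
    rw [hr]; simp [QuadraticMap.polar_add_left, f.orth a z (Ne.symm h1), f.orth (π a) z (Ne.symm h2)]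
  have hTm : T.card = 1 := by
    by_contra h
    obtain ⟨m', hm', hmm⟩ := Finset.exists_mem_ne (by obtain ⟨r, hr⟩ := hTodd; omega : 1 < T.card) m
    obtain ⟨hm'R, hdm'⟩ := hTR m' hm'
    obtain ⟨hm'a, hm'b, hm'f⟩ := hRf m' hm'R
    exact false_of_three (f := f) hij (hneg _ hxa) (hneg _ (hd0 hmf hdm)) (hneg _ (hd0 hm'f hdm'))
      (by rw [quad_ap, hrQ]; exact f.two_c) (by rw [quad_ap]; exact f.quad_ne m) (by rw [quad_ap]; exact f.quad_ne m')
      (by rw [polar_ap, hrm' hma hmb]) (by rw [polar_ap, hrm' hm'a hm'b])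
      (by rw [polar_ap, f.orth m m' (Ne.symm hmm)])
  obtain ⟨o, o', ho, ho', hoo⟩ : ∃ o o', o ∈ R \ T ∧ o' ∈ R \ T ∧ o ≠ o' := by
    obtain ⟨o, ho, o', ho', hne⟩ := Finset.one_lt_card.1 (show 1 < (R \ T).card by
      have := Finset.le_card_sdiff T R
      omega)
    exact ⟨o, o', ho, ho', hne⟩
  have hpos : ∀ z ∈ R \ T, z ≠ a ∧ z ≠ π a ∧ ap w (f.b z) = f.b z := fun z hz => by
    obtain ⟨h1, h2⟩ := Finset.mem_sdiff.1 hz
    obtain ⟨z1, z2, z3⟩ := hRf z h1
    exact ⟨z1, z2, hd1 z3 ((hd z).resolve_right fun e => h2 (by simp [hT, h1, e]))⟩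
  obtain ⟨hoa, hob, hwo⟩ := hpos o ho
  obtain ⟨ho'a, ho'b, hwo'⟩ := hpos o' ho'
  have hmo : m ≠ o := fun e => (Finset.mem_sdiff.1 ho).2 (e ▸ hm)
  have hd2 : Q (f.b o + (-1 : F) • f.b o') = 2 * f.c := quad_add_smul_b hoo (by ring)
  have hk3 : (rf r : Isom Q) * rf (f.b o + (-1 : F) • f.b o') ∈ M :=
    hM _ (rf_mul_mem_omega f.nondeg f.two (hrQ ▸ f.two_c) (hd2.trans hrQ.symm))
      (Mono.mul f hrm (mono_rf_add_smul hoo (by ring)))
  have s1 := (root_image hH hg hij hMP hwe (hd0 hmf hdm) hwo (f.quad_ne o) (hM.bb_mem m o)).1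
  have s2 := (root_image hH hg hij hMP hwe (hd0 hmf hdm) hwo' (f.quad_ne o') (hM.bb_mem m o')).1
  have s3 := (root_image hH hg hij hMP hwe (ρ := f.b o + (-1 : F) • f.b o') hxa
    (by rw [map_add, map_smul, hwo, hwo']) (hd2 ▸ f.two_c) hk3).1
  rw [neg_one_smul, ← sub_eq_add_neg] at s3
  exact finish {o, o'} (f.b o) (f.b o') (Or.inl (Finset.card_pair hoo)) (f.quad_ne o) (f.quad_ne o')
    (f.orth o o' hoo) s1 s2 s3 (Or.inr (f.flip_pair hoo).symm)

end Frame

end CfsgLib.OrthMono
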