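import Cfsg.Agent.OrthMono.Six.Closure

/-!
# Centralisers of monomial involutions, in dimension six

Three rounds of the dihedral argument: an element of `M` centralising a monomial involution off the sign
changes is monomial, so that, without monomial columns off the monomial group, `M` is monomial.
-/

set_option autoImplicit false
set_option linter.unusedSectionVars false

namespace CfsgLib.OrthMono

open Matrix Module CfsgLib.Spinor CfsgLib.Forms CfsgLib.OrthMax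

/-- Permutations of six points preserving three pairs agree if they agree on one point of each. -/
theorem perm_eq_of_blocks {α : Type*} {a b o o' p q : α}
    (hcov : ∀ z, z = a ∨ z = b ∨ z = o ∨ z = o' ∨ z = p ∨ z = q) (hab : a ≠ b) (hoo : o ≠ o') (hpq : p ≠ q)
    {σ σ' : Equiv.Perm α}
    (hσ : (σ a = a ∧ σ b = b ∨ σ a = b ∧ σ b = a) ∧ (σ o = o ∧ σ o' = o' ∨ σ o = o' ∧ σ o' = o) ∧
      (σ p = p ∧ σ q = q ∨ σ p = q ∧ σ q = p))
    (hσ' : (σ' a = a ∧ σ' b = b ∨ σ' a = b ∧ σ' b = a) ∧ (σ' o = o ∧ σ' o' = o' ∨ σ' o = o' ∧ σ' o' = o) ∧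
      (σ' p = p ∧ σ' q = q ∨ σ' p = q ∧ σ' q = p))
    (h1 : σ a = σ' a) (h2 : σ o = σ' o) (h3 : σ p = σ' p) : σ = σ' := by
  refine Equiv.ext fun z => ?_
  obtain ⟨s1, s2, s3⟩ := hσ
  obtain ⟨t1, t2, t3⟩ := hσ'
  rcases hcov z with rfl | rfl | rfl | rfl | rfl | rfl
  · exact h1
  · rcases s1 with ⟨e, e'⟩ | ⟨e, e'⟩ <;> rcases t1 with ⟨u, u'⟩ | ⟨u, u'⟩ <;> rw [e', u'] <;>
      first | rfl | exact absurd (e.symm.trans (h1.trans u)) (by first | exact hab | exact hab.symm)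
  · exact h2
  · rcases s2 with ⟨e, e'⟩ | ⟨e, e'⟩ <;> rcases t2 with ⟨u, u'⟩ | ⟨u, u'⟩ <;> rw [e', u'] <;>
      first | rfl | exact absurd (e.symm.trans (h2.trans u)) (by first | exact hoo | exact hoo.symm)
  · exact h3
  · rcases s3 with ⟨e, e'⟩ | ⟨e, e'⟩ <;> rcases t3 with ⟨u, u'⟩ | ⟨u, u'⟩ <;> rw [e', u'] <;>
      first | rfl | exact absurd (e.symm.trans (h3.trans u)) (by first | exact hpq | exact hpq.symm)

/-- An involution of six points with a fixed point has another. -/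
theorem exists_second_fixed {τ : Equiv.Perm (Fin 6)} (hτ : ∀ z, τ (τ z) = z) {o : Fin 6} (ho : τ o = o) :
    ∃ o', o' ≠ o ∧ τ o' = o' := by
  by_contra hcon
  push Not at hcon
  obtain ⟨a, ha⟩ : ∃ a, a ≠ o := exists_ne o
  have haτ := hcon a ha
  have hτo : ∀ z, z ≠ o → τ z ≠ o := fun z hz e => hz (τ.injective (e.trans ho.symm))
  obtain ⟨c, -, hc⟩ := Finset.exists_mem_notMem_of_card_lt_card (s := ({o, a, τ a} : Finset (Fin 6)))
    (t := Finset.univ) (lt_of_le_of_lt Finset.card_le_three (by simp))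
  simp only [Finset.mem_insert, Finset.mem_singleton, not_or] at hc
  have hcτ := hcon c hc.1
  have hc1 : τ c ≠ a := fun e => hc.2.2 (by rw [← e, hτ])
  have hc2 : τ c ≠ τ a := fun e => hc.2.1 (τ.injective e)
  have hcard : ({o, a, τ a, c, τ c} : Finset (Fin 6)).card = 5 := by
    rw [Finset.card_insert_of_notMem (by simp [Ne.symm ha, Ne.symm (hτo a ha), Ne.symm hc.1, Ne.symm (hτo c hc.1)]),
      Finset.card_insert_of_notMem (by simp [Ne.symm haτ, Ne.symm hc.2.1, Ne.symm hc1]),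
      Finset.card_insert_of_notMem (by simp [Ne.symm hc.2.2, Ne.symm hc2]), Finset.card_pair (Ne.symm hcτ)]
  obtain ⟨e, -, he⟩ := Finset.exists_mem_notMem_of_card_lt_card (s := ({o, a, τ a, c, τ c} : Finset (Fin 6)))
    (t := Finset.univ) (by rw [hcard]; simp)
  simp only [Finset.mem_insert, Finset.mem_singleton, not_or] at he
  obtain ⟨h1, h2, h3, h4, h5⟩ := he
  have heτ := hcon e h1
  have hbig : ({o, a, τ a, c, τ c, e, τ e} : Finset (Fin 6)).card = 7 := by
    have q1 : τ e ≠ a := fun x => h3 (by rw [← x, hτ])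
    have q2 : τ e ≠ τ a := fun x => h2 (τ.injective x)
    have q3 : τ e ≠ c := fun x => h5 (by rw [← x, hτ])
    have q4 : τ e ≠ τ c := fun x => h4 (τ.injective x)
    rw [Finset.card_insert_of_notMem (by simp [Ne.symm ha, Ne.symm (hτo a ha), Ne.symm hc.1, Ne.symm (hτo c hc.1),
        Ne.symm h1, Ne.symm (hτo e h1)]),
      Finset.card_insert_of_notMem (by simp [Ne.symm haτ, Ne.symm hc.2.1, Ne.symm hc1, Ne.symm h2, Ne.symm q1]),
      Finset.card_insert_of_notMem (by simp [Ne.symm hc.2.2, Ne.symm hc2, Ne.symm h3, Ne.symm q2]),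
      Finset.card_insert_of_notMem (by simp [Ne.symm hcτ, Ne.symm h4, Ne.symm q3]),
      Finset.card_insert_of_notMem (by simp [Ne.symm h5, Ne.symm q4]), Finset.card_pair (Ne.symm heτ)]
  have := Finset.card_le_univ ({o, a, τ a, c, τ c, e, τ e} : Finset (Fin 6))
  rw [hbig, Fintype.card_fin] at this
  omega

/-- A commuting involution preserves the pair outside the first two. -/
theorem perm_preserves {τ σ ρ : Equiv.Perm (Fin 6)} (hτ : ∀ z, τ (τ z) = z) (hσ : ∀ z, σ (σ z) = z)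
    (hτσ : ∀ z, τ (σ z) = σ (τ z)) (hτρ : ∀ z, τ (ρ z) = ρ (τ z))
    (hσρ : ∀ z, σ (ρ z) = ρ (σ z)) {a o o' : Fin 6} (ha : τ a ≠ a) (hoo : o ≠ o') (ho : τ o = o) (ho' : τ o' = o')
    (hσU : σ a = a ∨ σ a = τ a) (hσV : σ o = o ∨ σ o = o') (hσV' : σ o' = o ∨ σ o' = o')
    (f1 : ∃ z, σ z = z) (f2 : ∃ z, τ (σ z) = z) (hσ1 : σ ≠ 1) (hστ : σ ≠ τ) : ρ o = o ∨ ρ o = o' := by
  by_contra hcon
  simp only [not_or] at hcon
  obtain ⟨z, hz⟩ : ∃ z, z = ρ o := ⟨_, rfl⟩
  rw [← hz] at hcon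
  have hzf : τ z = z := by rw [hz, hτρ, ho]
  have hab : τ (τ a) = a := hτ a
  have hza : z ≠ a := fun e => ha (by rw [← e, hzf])
  have hzb : z ≠ τ a := fun e => ha (τ.injective ((e ▸ hzf : τ (τ a) = τ a)))
  have hao : a ≠ o := fun e => ha (by rw [e, ho])
  have hao' : a ≠ o' := fun e => ha (by rw [e, ho'])
  have hbo : τ a ≠ o := fun e => hao (τ.injective (e.trans ho.symm))
  have hbo' : τ a ≠ o' := fun e => hao' (τ.injective (e.trans ho'.symm))
  have hcard : ({a, τ a, o, o', z} : Finset (Fin 6)).card = 5 := by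
    rw [Finset.card_insert_of_notMem (by simp [Ne.symm ha, hao, hao', Ne.symm hza]),
      Finset.card_insert_of_notMem (by simp [hbo, hbo', Ne.symm hzb]),
      Finset.card_insert_of_notMem (by simp [hoo, Ne.symm hcon.1]), Finset.card_pair (Ne.symm hcon.2)]
  obtain ⟨w, -, hw⟩ := Finset.exists_mem_notMem_of_card_lt_card (s := ({a, τ a, o, o', z} : Finset (Fin 6)))
    (t := Finset.univ) (by rw [hcard]; simp)
  simp only [Finset.mem_insert, Finset.mem_singleton, not_or] at hw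
  obtain ⟨w1, w2, w3, w4, w5⟩ := hw
  have hS : ({a, τ a, o, o', z, w} : Finset (Fin 6)) = Finset.univ := Finset.eq_univ_of_card _ (by
    rw [Finset.card_insert_of_notMem (by simp [Ne.symm ha, hao, hao', Ne.symm hza, Ne.symm w1]),
      Finset.card_insert_of_notMem (by simp [hbo, hbo', Ne.symm hzb, Ne.symm w2]),
      Finset.card_insert_of_notMem (by simp [hoo, Ne.symm hcon.1, Ne.symm w3]),
      Finset.card_insert_of_notMem (by simp [Ne.symm hcon.2, Ne.symm w4]), Finset.card_pair (Ne.symm w5)]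
    rfl)
  have hcov : ∀ x, x = a ∨ x = τ a ∨ x = o ∨ x = o' ∨ x = z ∨ x = w := fun x => by
    simpa using (hS ▸ Finset.mem_univ x : x ∈ ({a, τ a, o, o', z, w} : Finset (Fin 6)))
  have hwf : τ w = w := by
    rcases hcov (τ w) with e | e | e | e | e | e
    · exact absurd (τ.injective (e.trans hab.symm)) w2
    · exact absurd (τ.injective e) w1
    · exact absurd (τ.injective (e.trans ho.symm)) w3
    · exact absurd (τ.injective (e.trans ho'.symm)) w4
    · exact absurd (τ.injective (e.trans hzf.symm)) w5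
    · exact e
  have hσb : σ (τ a) = τ (σ a) := (hτσ a).symm
  rcases hσV with e | e
  · have hσz : σ z = z := by rw [hz, hσρ, e]
    have e' : σ o' = o' := hσV'.resolve_left fun h => hoo (σ.injective (e.trans h.symm))
    have hσw : σ w = w := by
      rcases hcov (σ w) with h | h | h | h | h | h
      · rcases hσU with u | u
        · exact absurd (σ.injective (h.trans u.symm)) w1
        · exact absurd (σ.injective (h.trans (show σ (τ a) = a by rw [hσb, u, hab]).symm)) w2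
      · rcases hσU with u | u
        · exact absurd (σ.injective (h.trans (show σ (τ a) = τ a by rw [hσb, u]).symm)) w2
        · exact absurd (σ.injective (h.trans u.symm)) w1
      · exact absurd (σ.injective (h.trans e.symm)) w3
      · exact absurd (σ.injective (h.trans e'.symm)) w4
      · exact absurd (σ.injective (h.trans hσz.symm)) w5
      · exact h
    rcases hσU with u | u
    · refine hσ1 (Equiv.ext fun x => ?_)
      rcases hcov x with rfl | rfl | rfl | rfl | rfl | rfl <;> simp [u, hσb, e, e', hσz, hσw]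
    · refine hστ (Equiv.ext fun x => ?_)
      rcases hcov x with rfl | rfl | rfl | rfl | rfl | rfl <;> simp [u, hσb, e, e', hσz, hσw, ho, ho', hzf, hwf]
  · have e' : σ o' = o := by rw [← e, hσ]
    have hσz : σ z ≠ z := fun h => hoo (ρ.injective (by rw [← e, ← hσρ, ← hz, h]))
    have hzw : σ z = w := by
      rcases hcov (σ z) with h | h | h | h | h | h
      · exact absurd (τ.injective (show τ a = τ (σ z) by rw [h])) (fun _ => ha (by rw [← h, hτσ, hzf]))
      · exact absurd h fun _ => ha (τ.injective (show τ (τ a) = τ a by rw [← h, hτσ, hzf]))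
      · exact absurd (σ.injective (h.trans e'.symm)) hcon.2
      · exact absurd (σ.injective (h.trans e.symm)) hcon.1
      · exact absurd h hσz
      · exact h
    have hwz : σ w = z := by rw [← hzw, hσ]
    rcases hσU with u | u
    · obtain ⟨x, hx⟩ := f2
      rcases hcov x with rfl | rfl | rfl | rfl | rfl | rfl <;>
        simp [u, hσb, e, e', hzw, hwz, ho, ho', hzf, hwf, hab, ha, Ne.symm ha, hoo, Ne.symm hoo, w5, Ne.symm w5] at hx
    · obtain ⟨x, hx⟩ := f1
      rcases hcov x with rfl | rfl | rfl | rfl | rfl | rfl <;>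
        simp [u, hσb, e, e', hzw, hwz, hab, ha, Ne.symm ha, hoo, Ne.symm hoo, w5, Ne.symm w5] at hx

/-- Commuting involutions of six points without fixed point free products have rank two. -/
theorem perm_rank_two {τ σ ρ : Equiv.Perm (Fin 6)} (hτ : ∀ z, τ (τ z) = z) (hσ : ∀ z, σ (σ z) = z)
    (hρ : ∀ z, ρ (ρ z) = z) (hτσ : ∀ z, τ (σ z) = σ (τ z)) (hτρ : ∀ z, τ (ρ z) = ρ (τ z))
    {a o o' : Fin 6} (ha : τ a ≠ a) (hoo : o ≠ o') (ho : τ o = o) (ho' : τ o' = o')
    (hσU : σ a = a ∨ σ a = τ a) (hρU : ρ a = a ∨ ρ a = τ a) (hσV : σ o = o ∨ σ o = o') (hρV : ρ o = o ∨ ρ o = o')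
    (hσV' : σ o' = o ∨ σ o' = o') (hρV' : ρ o' = o ∨ ρ o' = o')
    (f1 : ∃ z, σ z = z) (f2 : ∃ z, τ (σ z) = z) (f3 : ∃ z, ρ z = z) (f4 : ∃ z, τ (ρ z) = z)
    (f5 : ∃ z, σ (ρ z) = z) (f6 : ∃ z, τ (σ (ρ z)) = z) (hσ1 : σ ≠ 1) (hστ : σ ≠ τ) :
    ρ = 1 ∨ ρ = τ ∨ ρ = σ ∨ ρ = τ * σ := by
  obtain ⟨b, hb⟩ : ∃ b, b = τ a := ⟨_, rfl⟩
  rw [← hb] at hσU hρU
  have hab : a ≠ b := hb ▸ Ne.symm ha
  have hbτ : τ b = a := by rw [hb, hτ]
  have hao : a ≠ o := fun e => ha (by rw [e, ho])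
  have hao' : a ≠ o' := fun e => ha (by rw [e, ho'])
  have hbo : b ≠ o := fun e => hao (by rw [← hbτ, e, ho])
  have hbo' : b ≠ o' := fun e => hao' (by rw [← hbτ, e, ho'])
  obtain ⟨p, q, hpq, hout⟩ : ∃ p q, p ≠ q ∧ Finset.univ \ ({a, b, o, o'} : Finset (Fin 6)) = {p, q} := by
    refine Finset.card_eq_two.1 ?_
    rw [Finset.card_univ_sdiff, Finset.card_insert_of_notMem (by simp [hab, hao, hao']),
      Finset.card_insert_of_notMem (by simp [hbo, hbo']), Finset.card_pair hoo]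
    rfl
  have hmem : ∀ z, (z = p ∨ z = q) ↔ z ≠ a ∧ z ≠ b ∧ z ≠ o ∧ z ≠ o' := fun z => by
    have := congrArg (fun S : Finset (Fin 6) => z ∈ S) hout
    simp only [Finset.mem_sdiff, Finset.mem_univ, true_and, Finset.mem_insert, Finset.mem_singleton, not_or,
      eq_iff_iff] at this
    exact this.symm
  have hcov : ∀ z, z = a ∨ z = b ∨ z = o ∨ z = o' ∨ z = p ∨ z = q := fun z => by
    by_contra h
    simp only [not_or] at h
    rcases (hmem z).2 ⟨h.1, h.2.1, h.2.2.1, h.2.2.2.1⟩ with e | e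
    · exact h.2.2.2.2.1 e
    · exact h.2.2.2.2.2 e
  -- the shape of an element preserving the first two pairs
  have shape : ∀ {π : Equiv.Perm (Fin 6)}, (∀ z, τ (π z) = π (τ z)) → (π a = a ∨ π a = b) →
      (π o = o ∨ π o = o') → (π o' = o ∨ π o' = o') →
      (π a = a ∧ π b = b ∨ π a = b ∧ π b = a) ∧ (π o = o ∧ π o' = o' ∨ π o = o' ∧ π o' = o) ∧
        (π p = p ∧ π q = q ∨ π p = q ∧ π q = p) := by
    intro π hc hA hO hO'
    have hA' : π a = a ∧ π b = b ∨ π a = b ∧ π b = a := by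
      rcases hA with e | e
      · exact Or.inl ⟨e, by rw [hb, ← hc, e]⟩
      · exact Or.inr ⟨e, by rw [hb, ← hc, e, hbτ]⟩
    have hO'' : π o = o ∧ π o' = o' ∨ π o = o' ∧ π o' = o := by
      rcases hO with e | e <;> rcases hO' with e' | e'
      · exact absurd (π.injective (e.trans e'.symm)) hoo
      · exact Or.inl ⟨e, e'⟩
      · exact Or.inr ⟨e, e'⟩
      · exact absurd (π.injective (e.trans e'.symm)) hoo
    have hP : ∀ z, (z = p ∨ z = q) → (π z = p ∨ π z = q) := fun z hz => by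
      obtain ⟨z1, z2, z3, z4⟩ := (hmem z).1 hz
      refine (hmem _).2 ⟨?_, ?_, ?_, ?_⟩ <;> intro e
      · rcases hA' with ⟨u, -⟩ | ⟨-, u⟩
        exacts [z1 (π.injective (e.trans u.symm)), z2 (π.injective (e.trans u.symm))]
      · rcases hA' with ⟨-, u⟩ | ⟨u, -⟩
        exacts [z2 (π.injective (e.trans u.symm)), z1 (π.injective (e.trans u.symm))]
      · rcases hO'' with ⟨u, -⟩ | ⟨-, u⟩
        exacts [z3 (π.injective (e.trans u.symm)), z4 (π.injective (e.trans u.symm))]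
      · rcases hO'' with ⟨-, u⟩ | ⟨u, -⟩
        exacts [z4 (π.injective (e.trans u.symm)), z3 (π.injective (e.trans u.symm))]
    refine ⟨hA', hO'', ?_⟩
    rcases hP p (Or.inl rfl) with e | e <;> rcases hP q (Or.inr rfl) with e' | e'
    · exact absurd (π.injective (e.trans e'.symm)) hpq
    · exact Or.inl ⟨e, e'⟩
    · exact Or.inr ⟨e, e'⟩
    · exact absurd (π.injective (e.trans e'.symm)) hpq
  have sτ := shape (π := τ) (fun z => rfl) (Or.inr hb.symm) (Or.inl ho) (Or.inr ho')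
  -- two elements fixing `a`
  have claim : ∀ κ κ' : Equiv.Perm (Fin 6),
      ((κ a = a ∧ κ b = b ∨ κ a = b ∧ κ b = a) ∧ (κ o = o ∧ κ o' = o' ∨ κ o = o' ∧ κ o' = o) ∧
        (κ p = p ∧ κ q = q ∨ κ p = q ∧ κ q = p)) →
      ((κ' a = a ∧ κ' b = b ∨ κ' a = b ∧ κ' b = a) ∧ (κ' o = o ∧ κ' o' = o' ∨ κ' o = o' ∧ κ' o' = o) ∧
        (κ' p = p ∧ κ' q = q ∨ κ' p = q ∧ κ' q = p)) →
      κ a = a → κ' a = a → (∃ z, τ (κ z) = z) → (∃ z, τ (κ' z) = z) → (∃ z, τ (κ (κ' z)) = z) →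
      κ = 1 ∨ κ' = 1 ∨ κ' = κ := by
    intro κ κ' hκ hκ' e e' g1 g2 g3
    have h1 : ((1 : Equiv.Perm (Fin 6)) a = a ∧ (1 : Equiv.Perm (Fin 6)) b = b ∨ _) ∧
        ((1 : Equiv.Perm (Fin 6)) o = o ∧ (1 : Equiv.Perm (Fin 6)) o' = o' ∨ _) ∧
        ((1 : Equiv.Perm (Fin 6)) p = p ∧ (1 : Equiv.Perm (Fin 6)) q = q ∨ _) :=
      shape (π := 1) (fun z => rfl) (Or.inl rfl) (Or.inl rfl) (Or.inr rfl)
    by_contra hcon
    simp only [not_or] at hcon
    obtain ⟨n1, n2, n3⟩ := hcon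
    have nκ : κ o = o → κ p = p → False := fun x y => n1 (perm_eq_of_blocks hcov hab hoo hpq hκ h1 e x y)
    have nκ' : κ' o = o → κ' p = p → False := fun x y => n2 (perm_eq_of_blocks hcov hab hoo hpq hκ' h1 e' x y)
    have nκκ : κ' o = κ o → κ' p = κ p → False :=
      fun x y => n3 (perm_eq_of_blocks hcov hab hoo hpq hκ' hκ (e'.trans e.symm) x y)
    obtain ⟨z1, hz1⟩ := g1
    obtain ⟨z2, hz2⟩ := g2
    obtain ⟨z3, hz3⟩ := g3
    obtain ⟨hκa, hκo, hκp⟩ := hκ
    obtain ⟨hκa', hκo', hκp'⟩ := hκ'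
    have hκb : κ b = b := hκa.elim (·.2) fun h => absurd (e.symm.trans h.1) hab
    have hκb' : κ' b = b := hκa'.elim (·.2) fun h => absurd (e'.symm.trans h.1) hab
    obtain ⟨-, -, hτp⟩ := sτ
    rcases hκo with ⟨x1, x2⟩ | ⟨x1, x2⟩ <;> rcases hκp with ⟨x3, x4⟩ | ⟨x3, x4⟩ <;>
      rcases hκo' with ⟨y1, y2⟩ | ⟨y1, y2⟩ <;> rcases hκp' with ⟨y3, y4⟩ | ⟨y3, y4⟩ <;>
      first
        | exact nκ x1 x3
        | exact nκ' y1 y3
        | exact nκκ (y1.trans x1.symm) (y3.trans x3.symm)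
        | (rcases hτp with ⟨w1, w2⟩ | ⟨w1, w2⟩ <;>
            first
              | (rcases hcov z1 with rfl | rfl | rfl | rfl | rfl | rfl <;>
                  simp [e, hκb, x1, x2, x3, x4, ← hb, hbτ, ho, ho', w1, w2, hab, hab.symm, hoo, hoo.symm, hpq,
                    hpq.symm] at hz1 <;> done)
              | (rcases hcov z2 with rfl | rfl | rfl | rfl | rfl | rfl <;>
                  simp [e', hκb', y1, y2, y3, y4, ← hb, hbτ, ho, ho', w1, w2, hab, hab.symm, hoo, hoo.symm, hpq,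
                    hpq.symm] at hz2 <;> done)
              | (rcases hcov z3 with rfl | rfl | rfl | rfl | rfl | rfl <;>
                  simp [e, hκb, x1, x2, x3, x4, e', hκb', y1, y2, y3, y4, ← hb, hbτ, ho, ho', w1, w2, hab, hab.symm,
                    hoo, hoo.symm, hpq, hpq.symm] at hz3 <;> done))
  have sσ := shape hτσ hσU hσV hσV'
  have sρ := shape hτρ hρU hρV hρV'
  have sτσ := shape (π := τ * σ) (fun z => by simp [hτσ]) (by
      rcases hσU with e | e
      · exact Or.inr (by simp [e, hb])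
      · exact Or.inl (by simp [e, hbτ]))
    (by rcases hσV with e | e <;> simp [e, ho, ho']) (by rcases hσV' with e | e <;> simp [e, ho, ho'])
  have sτρ := shape (π := τ * ρ) (fun z => by simp [hτρ]) (by
      rcases hρU with e | e
      · exact Or.inr (by simp [e, hb])
      · exact Or.inl (by simp [e, hbτ]))
    (by rcases hρV with e | e <;> simp [e, ho, ho']) (by rcases hρV' with e | e <;> simp [e, ho, ho'])
  have hτσ1 : τ * σ ≠ 1 := fun h => hστ (Equiv.ext fun z => by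
    have := Equiv.ext_iff.1 h z
    simp only [Equiv.Perm.mul_apply, Equiv.Perm.one_apply] at this
    conv_rhs => rw [← this, hτ])
  have back : ∀ π : Equiv.Perm (Fin 6), τ * ρ = π → ρ = τ * π := fun π h => Equiv.ext fun z => by
    simp [← h, hτ]
  rcases hσU with e | e <;> rcases hρU with e' | e'
  · rcases claim σ ρ sσ sρ e e' f2 f4 f6 with h | h | h
    exacts [absurd h hσ1, Or.inl h, Or.inr (Or.inr (Or.inl h))]
  · rcases claim σ (τ * ρ) sσ sτρ e (by simp [e', hbτ]) f2 (by simpa [hτ] using f3)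
      (by simpa [← hτσ, hτ] using f5) with h | h | h
    · exact absurd h hσ1
    · exact Or.inr (Or.inl ((back _ h).trans (mul_one τ)))
    · exact Or.inr (Or.inr (Or.inr (back _ h)))
  · rcases claim (τ * σ) ρ sτσ sρ (by simp [e, hbτ]) e' (by simpa [hτ] using f1) f4
      (by simpa [hτ] using f5) with h | h | h
    exacts [absurd h hτσ1, Or.inl h, Or.inr (Or.inr (Or.inr h))]
  · rcases claim (τ * σ) (τ * ρ) sτσ sτρ (by simp [e, hbτ]) (by simp [e', hbτ]) (by simpa [hτ] using f1)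
      (by simpa [hτ] using f3) (by simpa [← hτσ, hτ] using f6) with h | h | h
    · exact absurd h hτσ1
    · exact Or.inr (Or.inl ((back _ h).trans (mul_one τ)))
    · exact Or.inr (Or.inr (Or.inl ((back _ h).trans (Equiv.ext fun z => by simp [hτ]))))

variable {F : Type*} [Field F] [Fintype F] {ι : Type} [Fintype ι] [DecidableEq ι] {Q : QuadraticForm F (ι → F)}

set_option quotPrecheck false in
local notation "𝔅" => QuadraticMap.polar (⇑Q)

namespace Frame

variable {f : Frame Q 6}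

/-- The elements of a set and their negatives. -/
def pmSet (f : Frame Q 6) (S : Set (Isom Q)) : Set (Isom Q) :=
  {x | ∃ v ∈ S, x = v ∨ x = f.flip Finset.univ * v}

theorem HasPerm.apply_apply {g : Isom Q} {π : Equiv.Perm (Fin 6)} (h : f.HasPerm g π) (h2 : g * g = 1) (z : Fin 6) :
    π (π z) = z := by
  have h1 := h.mul h
  rw [h2] at h1
  exact Equiv.ext_iff.1 (h1.unique hasPerm_one) z

theorem HasPerm.apply_comm {g k : Isom Q} {π σ : Equiv.Perm (Fin 6)} (hg : f.HasPerm g π) (hk : f.HasPerm k σ)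
    (h : g * k = k * g) (z : Fin 6) : π (σ z) = σ (π z) := by
  have h1 := hg.mul hk
  rw [h] at h1
  exact Equiv.ext_iff.1 (h1.unique (hk.mul hg)) z

/-- The permutation of an element commuting with a sign change preserves its set. -/
theorem HasPerm.image_eq {g : Isom Q} {π : Equiv.Perm (Fin 6)} (hg : f.HasPerm g π) {U : Finset (Fin 6)}
    (h : g * f.flip U = f.flip U * g) : U.image π = U := by
  apply f.flip_inj
  rw [← hg.conj_flip, h, mul_inv_cancel_right]

theorem HasPerm.commute_flip {g : Isom Q} {π : Equiv.Perm (Fin 6)} (hg : f.HasPerm g π) {U : Finset (Fin 6)}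
    (h : U.image π = U) : g * f.flip U = f.flip U * g := by
  rw [← mul_inv_eq_iff_eq_mul, hg.conj_flip, h]

theorem HasPerm.commute_pair {g : Isom Q} {π : Equiv.Perm (Fin 6)} (hg : f.HasPerm g π) {a b : Fin 6}
    (h : π a = a ∧ π b = b ∨ π a = b ∧ π b = a) : g * f.flip {a, b} = f.flip {a, b} * g := by
  refine hg.commute_flip ?_
  rcases h with ⟨e, e'⟩ | ⟨e, e'⟩
  · rw [Finset.image_insert, Finset.image_singleton, e, e']
  · rw [Finset.image_insert, Finset.image_singleton, e, e', Finset.pair_comm]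

variable {M : Subgroup (Isom Q)} (hM : f.HasMono M) (hH : f.NoCol M) (hMΩ : M ≤ Cfsg.Omega F ⇑Q)
include hM hH hMΩ

omit hM hH in
/-- A monomial involution of `Ω` fixes a line of the frame. -/
theorem exists_fixed_line {g : Isom Q} (hg : g ∈ M) (hg2 : g * g = 1) {π : Equiv.Perm (Fin 6)} (hπ : f.HasPerm g π) :
    ∃ z, π z = z := by
  classical
  by_contra hcon
  push Not at hcon
  obtain ⟨π', d, hd, hπ'⟩ := hπ.mono.exists_perm f
  obtain rfl : π' = π := (show f.HasPerm g π' from fun i => ⟨d i, hπ' i⟩).unique hπ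
  obtain ⟨a, -⟩ : ∃ a : Fin 6, True := ⟨0, trivial⟩
  obtain ⟨hπa, hda, hdaa, -, -⟩ := rf_swap_b hg2 hd hπ' (hcon a)
  obtain ⟨c, -, hc⟩ := Finset.exists_mem_notMem_of_card_lt_card (s := ({a, π' a} : Finset (Fin 6)))
    (t := Finset.univ) (lt_of_le_of_lt Finset.card_le_two (by simp))
  simp only [Finset.mem_insert, Finset.mem_singleton, not_or] at hc
  obtain ⟨hπc, hdc, hdcc, -, -⟩ := rf_swap_b hg2 hd hπ' (hcon c)
  obtain ⟨o, -, ho⟩ := Finset.exists_mem_notMem_of_card_lt_card (s := ({a, π' a, c, π' c} : Finset (Fin 6)))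
    (t := Finset.univ) (lt_of_le_of_lt Finset.card_le_four (by simp))
  simp only [Finset.mem_insert, Finset.mem_singleton, not_or] at ho
  obtain ⟨hπo, hdo, hdoo, -, -⟩ := rf_swap_b hg2 hd hπ' (hcon o)
  have hca' : π' c ≠ a := fun e => hc.2 (by rw [← e, hπc])
  have hcb' : π' c ≠ π' a := fun e => hc.1 (π'.injective e)
  have hoa' : π' o ≠ a := fun e => ho.2.1 (by rw [← e, hπo])
  have hob' : π' o ≠ π' a := fun e => ho.1 (π'.injective e)
  have hoc' : π' o ≠ c := fun e => ho.2.2.2 (by rw [← e, hπo])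
  have hod' : π' o ≠ π' c := fun e => ho.2.2.1 (π'.injective e)
  obtain ⟨r1, r2, r3⟩ := rf_add_smul_b_b (f := f) (Ne.symm (hcon a)) (s := -d a) (by rw [neg_mul_neg, hda])
  obtain ⟨u1, u2, u3⟩ := rf_add_smul_b_b (f := f) (Ne.symm (hcon c)) (s := -d c) (by rw [neg_mul_neg, hdc])
  obtain ⟨v1, v2, v3⟩ := rf_add_smul_b_b (f := f) (Ne.symm (hcon o)) (s := -d o) (by rw [neg_mul_neg, hdo])
  rw [neg_neg] at r1 r2 u1 u2 v1 v2
  have hcov : ∀ z, z = a ∨ z = π' a ∨ z = c ∨ z = π' c ∨ z = o ∨ z = π' o := fun z => by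
    have hS : ({a, π' a, c, π' c, o, π' o} : Finset (Fin 6)) = Finset.univ := Finset.eq_univ_of_card _ (by
      rw [Finset.card_insert_of_notMem (by simp [Ne.symm (hcon a), Ne.symm hc.1, Ne.symm hca', Ne.symm ho.1, Ne.symm hoa']),
        Finset.card_insert_of_notMem (by simp [Ne.symm hc.2, Ne.symm hcb', Ne.symm ho.2.1, Ne.symm hob']),
        Finset.card_insert_of_notMem (by simp [Ne.symm (hcon c), Ne.symm ho.2.2.1, Ne.symm hoc']),
        Finset.card_insert_of_notMem (by simp [Ne.symm ho.2.2.2, Ne.symm hod']), Finset.card_pair (Ne.symm (hcon o))]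
      rfl)
    simpa using (hS ▸ Finset.mem_univ z : z ∈ ({a, π' a, c, π' c, o, π' o} : Finset (Fin 6)))
  have he : g = (rf (f.b a + (-d a) • f.b (π' a)) : Isom Q) * (rf (f.b c + (-d c) • f.b (π' c)) *
      rf (f.b o + (-d o) • f.b (π' o))) := f.ext_b fun z => by
    rw [ap_mul, ap_mul, hπ']
    rcases hcov z with rfl | rfl | rfl | rfl | rfl | rfl
    · rw [v3 _ (Ne.symm ho.1) (Ne.symm hoa'), u3 _ (Ne.symm hc.1) (Ne.symm hca'), r1]
    · rw [v3 _ (Ne.symm ho.2.1) (Ne.symm hob'), u3 _ (Ne.symm hc.2) (Ne.symm hcb'), r2, hdaa, hπa]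
    · rw [v3 _ (Ne.symm ho.2.2.1) (Ne.symm hoc'), u1, map_smul, r3 _ hca' hcb']
    · rw [v3 _ (Ne.symm ho.2.2.2) (Ne.symm hod'), u2, map_smul, r3 _ hc.1 hc.2, hdcc, hπc]
    · rw [v1, map_smul, map_smul, u3 _ hoc' hod', r3 _ hoa' hob']
    · rw [v2, map_smul, map_smul, u3 _ ho.2.2.1 ho.2.2.2, r3 _ ho.1 ho.2.1, hdoo, hπo]
  have hdet := det_of_omega (hMΩ hg)
  rw [he, mat_mul, mat_mul, Matrix.det_mul, Matrix.det_mul,
    det_rf (v := f.b a + (-d a) • f.b (π' a)) (by rw [quad_add_smul_b (Ne.symm (hcon a)) (by rw [neg_mul_neg, hda])]; exact f.two_c),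
    det_rf (v := f.b c + (-d c) • f.b (π' c)) (by rw [quad_add_smul_b (Ne.symm (hcon c)) (by rw [neg_mul_neg, hdc])]; exact f.two_c),
    det_rf (v := f.b o + (-d o) • f.b (π' o)) (by rw [quad_add_smul_b (Ne.symm (hcon o)) (by rw [neg_mul_neg, hdo])]; exact f.two_c)] at hdet
  exact f.two (by linear_combination -hdet)

/-- An element commuting with two commuting involutions of one permutation, not equal up to sign, is monomial. -/
theorem mono_of_perm_eq {g v c : Isom Q} (hg : g ∈ M) (hv : v ∈ M) (hv2 : v * v = 1) (hc : c ∈ M)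
    {π : Equiv.Perm (Fin 6)} (hvπ : f.HasPerm v π) (hcπ : f.HasPerm c π) (hgv : g * v = v * g)
    (hgc : g * c = c * g) (h1 : c ≠ v) (h2 : c ≠ f.flip Finset.univ * v) : f.Mono g := by
  classical
  have hπ : π * π = 1 := Equiv.ext fun z => hvπ.apply_apply hv2 z
  obtain ⟨V, hV⟩ := HasPerm.exists_flip (f := f) (g := v * c) (hπ ▸ hvπ.mul hcπ)
  have hVe : Even V.card := even_of_flip_mem hMΩ (hV ▸ M.mul_mem hv hc)
  have hcv : c = v * f.flip V := by rw [← hV, ← mul_assoc, hv2, one_mul]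
  have hV0 : V ≠ ∅ := fun e => h1 (by rw [hcv, e, flip_empty, mul_one])
  have hV1 : V ≠ Finset.univ := fun e => h2 (by rw [hcv, e]; exact (f.commute_flip_univ v).eq.symm)
  have hlt : V.card < 6 := by
    have h6 := Finset.card_le_univ V
    rw [Fintype.card_fin] at h6
    by_contra hcon
    exact hV1 (Finset.eq_univ_of_card V (by rw [Fintype.card_fin]; omega))
  have hpos := Finset.card_pos.2 (Finset.nonempty_iff_ne_empty.2 hV0)
  refine mono_of_conj_flip hM hH hg (U := V) (V := V) ?_ ?_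
  · obtain ⟨r, hr⟩ := hVe
    omega
  rw [mul_inv_eq_iff_eq_mul, ← hV, ← mul_assoc, hgv, mul_assoc, hgc, mul_assoc]

/-- The dihedral step: a new involution commuting with a sign change and a conjugate. -/
theorem exists_next {A : Set (Isom Q)} (h1 : (1 : Isom Q) ∈ A) (hAm : ∀ a ∈ A, f.Mono a)
    (hd : ∀ a ∈ A, ∀ V, a = f.flip V → V = ∅ ∨ V = Finset.univ)
    {g : Isom Q} (hg : g ∈ M) (hgA : ∀ a ∈ A, g * a = a * g) {k l : Fin 6} (hkl : k ≠ l)
    (heA : ∀ a ∈ A, f.flip {k, l} * a = a * f.flip {k, l})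
    {u : Isom Q} (hu : u ∈ M) (hum : f.Mono u) (hu2 : u * u = 1) (huA : ∀ a ∈ A, u * a = a * u)
    (hyp : ∀ h ∈ M, f.Mono h → (∀ a ∈ A, h * a = a * h) → ∀ a ∈ A, h * u * h⁻¹ ≠ f.flip {k, l} * a) :
    ∃ c ∈ M, f.Mono c ∧ c * c = 1 ∧ c ∉ A ∧ (∀ a ∈ A, c * a = a * c) ∧
      c * f.flip {k, l} = f.flip {k, l} * c ∧ c * (g * u * g⁻¹) = g * u * g⁻¹ * c := by
  classical
  obtain ⟨e, he⟩ : ∃ e, e = f.flip {k, l} := ⟨_, rfl⟩
  obtain ⟨y, hy⟩ : ∃ y, y = g * u * g⁻¹ := ⟨_, rfl⟩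
  rw [← he, ← hy]
  rw [← he] at heA hyp
  have hee : e * e = 1 := he ▸ f.flip_mul_self _
  have hyy : y * y = 1 := by
    rw [hy, show g * u * g⁻¹ * (g * u * g⁻¹) = g * (u * u) * g⁻¹ by group, hu2, mul_one, mul_inv_cancel]
  have heM : e ∈ M := he ▸ flip_mem hM (by rw [Finset.card_pair hkl]; decide)
  have hyM : y ∈ M := hy ▸ M.mul_mem (M.mul_mem hg hu) (M.inv_mem hg)
  have hyA : ∀ a ∈ A, y * a = a * y := fun a ha => by
    have hgi : g⁻¹ * a = a * g⁻¹ := by
      rw [eq_mul_inv_iff_mul_eq, mul_assoc, ← hgA a ha, ← mul_assoc, inv_mul_cancel, one_mul]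
    rw [hy, mul_assoc, hgi, ← mul_assoc, mul_assoc g, huA a ha, ← mul_assoc, hgA a ha]
    simp only [mul_assoc]
  have hse : ∀ j : ℕ, e * (e * y) ^ j = ((e * y) ^ j)⁻¹ * e := fun j => by
    have hs : SemiconjBy e (e * y) (e * y)⁻¹ := by
      show e * (e * y) = (e * y)⁻¹ * e
      rw [_root_.mul_inv_rev, inv_eq_of_mul_eq_one_right hee, inv_eq_of_mul_eq_one_right hyy, ← mul_assoc, hee,
        one_mul, mul_assoc, hee, mul_one]
    have := hs.pow_right j
    rwa [SemiconjBy, inv_pow] at this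
  have hsy : ∀ j : ℕ, y * (e * y) ^ j = ((e * y) ^ j)⁻¹ * y := fun j => by
    have hs : SemiconjBy y (e * y) (e * y)⁻¹ := by
      show y * (e * y) = (e * y)⁻¹ * y
      rw [_root_.mul_inv_rev, inv_eq_of_mul_eq_one_right hee, inv_eq_of_mul_eq_one_right hyy, mul_assoc y e y]
    have := hs.pow_right j
    rwa [SemiconjBy, inv_pow] at this
  have hcomA : ∀ j : ℕ, ∀ a ∈ A, (e * y) ^ j * a = a * (e * y) ^ j := fun j a ha =>
    (Commute.pow_left (Commute.mul_left (heA a ha) (hyA a ha)) j).eq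
  have hex : ∃ m : ℕ, 0 < m ∧ (e * y) ^ m ∈ A :=
    ⟨orderOf (e * y), orderOf_pos _, by rw [pow_orderOf_eq_one]; exact h1⟩
  obtain ⟨m, hm⟩ : ∃ m, m = Nat.find hex := ⟨_, rfl⟩
  obtain ⟨hm0, hmA⟩ : 0 < m ∧ (e * y) ^ m ∈ A := hm ▸ Nat.find_spec hex
  have hmin : ∀ j, 0 < j → j < m → (e * y) ^ j ∉ A := fun j h0 hj h =>
    Nat.find_min hex (hm ▸ hj) ⟨h0, h⟩
  rcases Nat.even_or_odd' m with ⟨j, rfl | rfl⟩
  · obtain ⟨c, hc⟩ : ∃ c, c = (e * y) ^ j := ⟨_, rfl⟩
    have hcc : c * c = (e * y) ^ (2 * j) := by rw [hc, ← pow_add, two_mul]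
    have hcM : c ∈ M := hc ▸ M.pow_mem (M.mul_mem heM hyM) j
    have hce : c * e * c⁻¹ = c * c * e := by
      have h' := hse j
      rw [← hc] at h'
      rw [mul_assoc, mul_assoc]
      congr 1
      rw [mul_inv_eq_iff_eq_mul, mul_assoc, h', ← mul_assoc, mul_inv_cancel, one_mul]
    have hcm : f.Mono c := by
      have h' := mono_of_mono_conj hM hH hMΩ (M.inv_mem hcM) hkl (by
        rw [inv_inv, ← he, hce, hcc]
        exact Mono.mul f (hAm _ hmA) (he ▸ f.mono_flip _))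
      exact inv_inv c ▸ Mono.inv f h'
    obtain ⟨π, hπ⟩ := hcm.exists_hasPerm
    have haflip : c * c = f.flip (symmDiff ((({k, l} : Finset (Fin 6))).image π) {k, l}) := by
      rw [← f.flip_mul, ← hπ.conj_flip, ← he, hce, mul_assoc (c * c) e e, hee, mul_one]
    have hcc1 : c * c = 1 := by
      rcases hd _ hmA _ (hcc.symm.trans haflip) with h | h
      · rw [haflip, h, flip_empty]
      · exfalso
        have h2 : ({k, l} : Finset (Fin 6)).image π = Finset.univ \ {k, l} := by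
          ext z
          have := congrArg (fun S : Finset (Fin 6) => z ∈ S) h
          simp only [Finset.mem_symmDiff, Finset.mem_univ, eq_iff_iff, iff_true] at this
          simp only [Finset.mem_sdiff, Finset.mem_univ, true_and]
          tauto
        have := congrArg Finset.card h2
        rw [Finset.card_image_of_injective _ π.injective, Finset.card_univ_sdiff, Finset.card_pair hkl,
          Fintype.card_fin] at this
        omega
    have hcinv : c⁻¹ = c := inv_eq_of_mul_eq_one_right hcc1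
    refine ⟨c, hcM, hcm, hcc1, hc ▸ hmin j (by omega) (by omega), fun a ha => hc ▸ hcomA j a ha, ?_, ?_⟩
    · rw [← mul_inv_eq_iff_eq_mul, hce, hcc1, one_mul]
    · have h' := hsy j
      rw [← hc, hcinv] at h'
      exact h'.symm
  · exfalso
    obtain ⟨a, ha⟩ : ∃ a, a = (e * y) ^ (2 * j + 1) := ⟨_, rfl⟩
    obtain ⟨h, hh⟩ : ∃ h, h = (e * y) ^ (j + 1) := ⟨_, rfl⟩
    rw [← ha] at hmA
    have hhM : h ∈ M := hh ▸ M.pow_mem (M.mul_mem heM hyM) _
    have hconj : h * y * h⁻¹ = e * a := by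
      have h' := hsy (j + 1)
      rw [← hh] at h'
      have h'' : y * h⁻¹ = h * y := by
        rw [mul_inv_eq_iff_eq_mul, mul_assoc, h', ← mul_assoc, mul_inv_cancel, one_mul]
      rw [mul_assoc, h'', ← mul_assoc, hh, ← pow_add, show j + 1 + (j + 1) = 2 * j + 1 + 1 by omega, pow_succ, ← ha,
        mul_assoc, mul_assoc e y y, hyy, mul_one, ← heA a hmA]
    obtain ⟨g', hg'⟩ : ∃ g', g' = h * g := ⟨_, rfl⟩
    have hg'M : g' ∈ M := hg' ▸ M.mul_mem hhM hg
    have hg'A : ∀ a ∈ A, g' * a = a * g' := fun b hb => by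
      rw [hg', mul_assoc, hgA b hb, ← mul_assoc, hh, hcomA _ b hb, mul_assoc]
    have hgu : g' * u * g'⁻¹ = e * a := by
      rw [← hconj, hg', hy]
      group
    have hconj' : g'⁻¹ * e * g' = u * a⁻¹ := by
      have h3 : a⁻¹ * g' = g' * a⁻¹ := by
        rw [inv_mul_eq_iff_eq_mul, ← mul_assoc, ← hg'A a hmA, mul_inv_cancel_right]
      rw [show e = g' * u * g'⁻¹ * a⁻¹ by rw [hgu, mul_inv_cancel_right],
        show g'⁻¹ * (g' * u * g'⁻¹ * a⁻¹) * g' = u * g'⁻¹ * (a⁻¹ * g') by group, h3]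
      group
    have hgm : f.Mono g' := mono_of_mono_conj hM hH hMΩ hg'M hkl (by
      rw [← he, hconj']
      exact Mono.mul f hum (Mono.inv f (hAm a hmA)))
    exact hyp g' hg'M hgm hg'A a hmA hgu

omit hM hH hMΩ in
theorem one_mem_pmSet {S : Set (Isom Q)} (h : (1 : Isom Q) ∈ S) : (1 : Isom Q) ∈ f.pmSet S :=
  ⟨1, h, Or.inl rfl⟩

omit hM hH hMΩ in
theorem commute_pmSet {S : Set (Isom Q)} {x : Isom Q} (h : ∀ v ∈ S, x * v = v * x) :
    ∀ a ∈ f.pmSet S, x * a = a * x := by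
  rintro a ⟨v, hv, e | e⟩ <;> subst e
  · exact h a hv
  · rw [← mul_assoc, ← (f.commute_flip_univ x).eq, mul_assoc, h v hv, mul_assoc]

omit hM hH hMΩ in
theorem mono_pmSet {S : Set (Isom Q)} (h : ∀ v ∈ S, f.Mono v) : ∀ a ∈ f.pmSet S, f.Mono a := by
  rintro a ⟨v, hv, e | e⟩ <;> subst e
  · exact h a hv
  · exact Mono.mul f (f.mono_flip _) (h v hv)

omit hM hH hMΩ in
/-- A set of elements of nontrivial permutations and one holds no sign change but the central ones. -/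
theorem diag_pmSet {S : Set (Isom Q)} (h : ∀ v ∈ S, v = 1 ∨ ∃ π, π ≠ 1 ∧ f.HasPerm v π) :
    ∀ a ∈ f.pmSet S, ∀ V, a = f.flip V → V = ∅ ∨ V = Finset.univ := by
  rintro a ⟨v, hv, hav⟩ V hV
  rcases h v hv with rfl | ⟨π, hπ1, hπ⟩
  · rcases hav with e | e
    · exact Or.inl (f.flip_inj (by rw [← hV, e, flip_empty]))
    · exact Or.inr (f.flip_inj (by rw [← hV, e, mul_one]))
  · exfalso
    rcases hav with e | e
    · exact hπ1 (hπ.unique (by rw [← e, hV]; exact hasPerm_flip V))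
    · have h1 : f.HasPerm a π := e ▸ (one_mul π ▸ (hasPerm_flip Finset.univ).mul hπ)
      exact hπ1 (h1.unique (hV ▸ hasPerm_flip V))

omit hM hH hMΩ in
/-- A fixed pair of one involution is not moved to a moved pair inside the centraliser. -/
theorem no_conj_pair {A : Set (Isom Q)} {s : Isom Q} {τ : Equiv.Perm (Fin 6)} (hs : f.HasPerm s τ) (hsA : s ∈ A)
    (hd : ∀ a ∈ A, ∀ V, a = f.flip V → V = ∅ ∨ V = Finset.univ)
    {a o o' : Fin 6} (ha : τ a ≠ a) (hoo : o ≠ o') (ho : τ o = o)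
    {h : Isom Q} (hm : f.Mono h) (hhA : ∀ b ∈ A, h * b = b * h) {b : Isom Q} (hb : b ∈ A) :
    h * f.flip {o, o'} * h⁻¹ ≠ f.flip {a, τ a} * b := by
  intro heq
  obtain ⟨π, hπ⟩ := hm.exists_hasPerm
  rw [hπ.conj_flip] at heq
  have hbV : b = f.flip (symmDiff {a, τ a} (({o, o'} : Finset (Fin 6)).image π)) := by
    rw [← f.flip_mul, heq, ← mul_assoc, f.flip_mul_self, one_mul]
  rcases hd b hb _ hbV with h1 | h1
  · rw [← Finset.bot_eq_empty, symmDiff_eq_bot] at h1
    have hmem : π o ∈ ({a, τ a} : Finset (Fin 6)) := h1 ▸ Finset.mem_image_of_mem π (by simp)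
    have hfix : τ (π o) = π o := by rw [hs.apply_comm hπ (hhA s hsA).symm, ho]
    simp only [Finset.mem_insert, Finset.mem_singleton] at hmem
    rcases hmem with e | e <;> rw [e] at hfix
    · exact ha hfix
    · exact ha (τ.injective hfix)
  · have hU : (({o, o'} : Finset (Fin 6)).image π) = ({a, τ a} : Finset (Fin 6))ᶜ := by
      ext z
      have := congrArg (fun S : Finset (Fin 6) => z ∈ S) h1
      simp only [Finset.mem_symmDiff, Finset.mem_univ, eq_iff_iff, iff_true] at this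
      simp only [Finset.mem_compl]
      tauto
    have := congrArg Finset.card hU
    rw [Finset.card_image_of_injective _ π.injective, Finset.card_compl, Finset.card_pair hoo,
      Finset.card_pair (Ne.symm ha), Fintype.card_fin] at this
    omega

/-- The second round. -/
theorem mono_of_two {g s c : Isom Q} {τ σ : Equiv.Perm (Fin 6)} {a : Fin 6}
    (hg : g ∈ M) (hsM : s ∈ M) (hs2 : s * s = 1) (hs : f.HasPerm s τ) (ha : τ a ≠ a)
    (hcM : c ∈ M) (hc2 : c * c = 1) (hc : f.HasPerm c σ) (hcs : c * s = s * c)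
    (hce : c * f.flip {a, τ a} = f.flip {a, τ a} * c) (hσ1 : σ ≠ 1) (hστ : σ ≠ τ)
    (hgs : g * s = s * g) (hgc : g * c = c * g) : f.Mono g := by
  classical
  have hτ2 := hs.apply_apply hs2
  have hσ2 := hc.apply_apply hc2
  have hτσ : ∀ z, τ (σ z) = σ (τ z) := fun z => hs.apply_comm hc hcs.symm z
  have hσa : ({a, τ a} : Finset (Fin 6)).image σ = {a, τ a} := hc.image_eq hce
  have hσU : σ a = a ∨ σ a = τ a := by
    simpa using (hσa ▸ Finset.mem_image_of_mem σ (by simp) : σ a ∈ ({a, τ a} : Finset (Fin 6)))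
  obtain ⟨o, o', hoo, ho, ho', hσV, hσV'⟩ : ∃ o o', o ≠ o' ∧ τ o = o ∧ τ o' = o' ∧
      (σ o = o ∨ σ o = o') ∧ (σ o' = o ∨ σ o' = o') := by
    by_cases hmov : ∃ x, τ x = x ∧ σ x ≠ x
    · obtain ⟨x, hx, hσx⟩ := hmov
      exact ⟨x, σ x, Ne.symm hσx, hx, by rw [hτσ, hx], Or.inr rfl, Or.inl (hσ2 x)⟩
    · push Not at hmov
      obtain ⟨z, hz⟩ := exists_fixed_line hMΩ hsM hs2 hs
      obtain ⟨z', hz', hzf⟩ := exists_second_fixed hτ2 hz
      exact ⟨z, z', Ne.symm hz', hz, hzf, Or.inl (hmov z hz), Or.inr (hmov z' hzf)⟩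
  obtain ⟨A, hA⟩ : ∃ A, A = f.pmSet {1, s, c, s * c} := ⟨_, rfl⟩
  have hτσ1 : τ * σ ≠ 1 := fun h => hστ (Equiv.ext fun z => by
    have := Equiv.ext_iff.1 h z
    simp only [Equiv.Perm.mul_apply, Equiv.Perm.one_apply] at this
    conv_rhs => rw [← this, hτ2])
  have hτ1 : τ ≠ 1 := fun h => ha (by rw [h]; rfl)
  have hS : ∀ v ∈ ({1, s, c, s * c} : Set (Isom Q)), v = 1 ∨ ∃ π, π ≠ 1 ∧ f.HasPerm v π := by
    intro v hv
    simp only [Set.mem_insert_iff, Set.mem_singleton_iff] at hv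
    rcases hv with rfl | rfl | rfl | rfl
    exacts [Or.inl rfl, Or.inr ⟨τ, hτ1, hs⟩, Or.inr ⟨σ, hσ1, hc⟩, Or.inr ⟨τ * σ, hτσ1, hs.mul hc⟩]
  have hcomS : ∀ {x : Isom Q}, x * s = s * x → x * c = c * x → ∀ v ∈ A, x * v = v * x := by
    intro x h1 h2
    rw [hA]
    refine commute_pmSet fun v hv => ?_
    simp only [Set.mem_insert_iff, Set.mem_singleton_iff] at hv
    rcases hv with rfl | rfl | rfl | rfl
    · rw [mul_one, one_mul]
    · exact h1
    · exact h2
    · rw [← mul_assoc, h1, mul_assoc, h2, mul_assoc]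
  have hd : ∀ x ∈ A, ∀ V, x = f.flip V → V = ∅ ∨ V = Finset.univ := hA ▸ diag_pmSet hS
  have hsA : s ∈ A := hA ▸ ⟨s, by simp, Or.inl rfl⟩
  have hcA : c ∈ A := hA ▸ ⟨c, by simp, Or.inl rfl⟩
  have hues : f.flip {o, o'} * s = s * f.flip {o, o'} := (hs.commute_pair (Or.inl ⟨ho, ho'⟩)).symm
  have huec : f.flip {o, o'} * c = c * f.flip {o, o'} := (hc.commute_pair (by
    rcases hσV with e | e <;> rcases hσV' with e' | e'
    · exact absurd (σ.injective (e.trans e'.symm)) hoo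
    · exact Or.inl ⟨e, e'⟩
    · exact Or.inr ⟨e, e'⟩
    · exact absurd (σ.injective (e.trans e'.symm)) hoo)).symm
  have hes : f.flip {a, τ a} * s = s * f.flip {a, τ a} :=
    (hs.commute_pair (Or.inr ⟨rfl, hτ2 a⟩)).symm
  have hoM : f.flip {o, o'} ∈ M := flip_mem hM (by rw [Finset.card_pair hoo]; decide)
  obtain ⟨d, hdM, hdm, hd2, hdA, hdcA, hde, hdy⟩ := exists_next hM hH hMΩ (A := A) (g := g) (u := f.flip {o, o'})
    (hA ▸ one_mem_pmSet (by simp)) (hA ▸ mono_pmSet fun v hv => by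
      rcases hS v hv with rfl | ⟨π, -, hπ⟩
      exacts [f.mono_one, hπ.mono]) hd hg (hcomS hgs hgc) (Ne.symm ha) (hcomS hes hce.symm) hoM (f.mono_flip _)
    (f.flip_mul_self _) (hcomS hues huec) (fun h _ hm hhA b hb => no_conj_pair hs hsA hd ha hoo ho hm hhA hb)
  obtain ⟨ρ, hρ⟩ := hdm.exists_hasPerm
  have hds : d * s = s * d := hdcA s hsA
  have hdc : d * c = c * d := hdcA c hcA
  obtain ⟨y, hy⟩ : ∃ y, y = g * f.flip {o, o'} * g⁻¹ := ⟨_, rfl⟩
  rw [← hy] at hdy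
  have hyM : y ∈ M := hy ▸ M.mul_mem (M.mul_mem hg hoM) (M.inv_mem hg)
  have hyx : ∀ {x : Isom Q}, g * x = x * g → f.flip {o, o'} * x = x * f.flip {o, o'} → y * x = x * y := by
    intro x h1 h2
    have h3 : g⁻¹ * x = x * g⁻¹ := by
      rw [eq_mul_inv_iff_mul_eq, mul_assoc, ← h1, ← mul_assoc, inv_mul_cancel, one_mul]
    rw [hy, mul_assoc, h3, ← mul_assoc, mul_assoc g, h2, ← mul_assoc, h1]
    simp only [mul_assoc]
  have hys := hyx hgs hues
  have hyc := hyx hgc huec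
  -- the new involution preserves the pairs
  have hρU : ρ a = a ∨ ρ a = τ a := by
    simpa using (hρ.image_eq hde ▸ Finset.mem_image_of_mem ρ (by simp) : ρ a ∈ ({a, τ a} : Finset (Fin 6)))
  have hword : ∀ {v : Isom Q} {π : Equiv.Perm (Fin 6)}, v ∈ ({1, s, c, s * c} : Set (Isom Q)) → v ∈ M →
      v * v = 1 → y * v = v * y → f.HasPerm v π → ρ = π → f.Mono y := fun {v π} hv hvM hv2 hyv hvπ e =>
    mono_of_perm_eq hM hH hMΩ hyM hvM hv2 hdM hvπ (e ▸ hρ) hyv hdy.symm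
      (fun e' => hdA (hA ▸ ⟨v, hv, Or.inl e'⟩)) (fun e' => hdA (hA ▸ ⟨v, hv, Or.inr e'⟩))
  have hsc2 : s * c * (s * c) = 1 := by
    rw [show s * c * (s * c) = s * (c * s) * c by group, hcs, show s * (s * c) * c = (s * s) * (c * c) by group,
      hs2, hc2, one_mul]
  have hfin : f.Mono y → f.Mono g := fun hym => by
    have h := mono_of_mono_conj hM hH hMΩ (M.inv_mem hg) hoo (by rw [inv_inv, ← hy]; exact hym)
    exact inv_inv g ▸ Mono.inv f h
  refine hfin ?_
  have hρ2 := hρ.apply_apply hd2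
  have hτρ : ∀ z, τ (ρ z) = ρ (τ z) := fun z => hs.apply_comm hρ hds.symm z
  have hσρ : ∀ z, σ (ρ z) = ρ (σ z) := fun z => hc.apply_comm hρ hdc.symm z
  have inv_mul : ∀ {x x' : Isom Q}, x * x = 1 → x' * x' = 1 → x * x' = x' * x → x * x' * (x * x') = 1 := by
    intro x x' h1 h2 h3
    rw [show x * x' * (x * x') = x * (x' * x) * x' by group, ← h3,
      show x * (x * x') * x' = (x * x) * (x' * x') by group, h1, h2, one_mul]
  have fx : ∀ {x : Isom Q} {π : Equiv.Perm (Fin 6)}, x ∈ M → x * x = 1 → f.HasPerm x π → ∃ z, π z = z :=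
    fun hx hx2 hxπ => exists_fixed_line hMΩ hx hx2 hxπ
  have f1 := fx hcM hc2 hc
  have f2 := fx (M.mul_mem hsM hcM) (inv_mul hs2 hc2 hcs.symm) (hs.mul hc)
  have hρV := perm_preserves hτ2 hσ2 hτσ hτρ hσρ ha hoo ho ho' hσU hσV hσV' f1 f2 hσ1 hστ
  have hρV' := perm_preserves hτ2 hσ2 hτσ hτρ hσρ ha hoo.symm ho' ho hσU hσV'.symm hσV.symm f1 f2 hσ1 hστ
  have hscd : s * c * d = d * (s * c) := by rw [mul_assoc, ← hdc, ← mul_assoc, ← hds, mul_assoc]
  rcases perm_rank_two hτ2 hσ2 hρ2 hτσ hτρ ha hoo ho ho' hσU hρU hσV hρV hσV' hρV'.symm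
      f1 f2 (fx hdM hd2 hρ) (fx (M.mul_mem hsM hdM) (inv_mul hs2 hd2 hds.symm) (hs.mul hρ))
      (fx (M.mul_mem hcM hdM) (inv_mul hc2 hd2 hdc.symm) (hc.mul hρ))
      (fx (M.mul_mem (M.mul_mem hsM hcM) hdM) (inv_mul hsc2 hd2 hscd) ((hs.mul hc).mul hρ))
      hσ1 hστ with e | e | e | e
  · exact hword (by simp) M.one_mem (one_mul 1) (by simp) hasPerm_one e
  · exact hword (by simp) hsM hs2 hys hs e
  · exact hword (by simp) hcM hc2 hyc hc e
  · exact hword (by simp) (M.mul_mem hsM hcM) hsc2 (by rw [← mul_assoc, hys, mul_assoc, hyc, mul_assoc])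
      (hs.mul hc) e

/-- The first round: an element centralising a monomial involution off the sign changes is monomial. -/
theorem mono_of_comm_inv {g s : Isom Q} {τ : Equiv.Perm (Fin 6)} (hg : g ∈ M) (hsM : s ∈ M) (hs2 : s * s = 1)
    (hs : f.HasPerm s τ) (hτ1 : τ ≠ 1) (hgs : g * s = s * g) : f.Mono g := by
  classical
  have hτ2 := hs.apply_apply hs2
  obtain ⟨a, ha⟩ : ∃ a, τ a ≠ a := by
    by_contra h
    push Not at h
    exact hτ1 (Equiv.ext h)
  obtain ⟨o, ho⟩ := exists_fixed_line hMΩ hsM hs2 hs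
  obtain ⟨o', hoo', ho'⟩ := exists_second_fixed hτ2 ho
  have hoo : o ≠ o' := Ne.symm hoo'
  obtain ⟨A, hA⟩ : ∃ A, A = f.pmSet {1, s} := ⟨_, rfl⟩
  have hS : ∀ v ∈ ({1, s} : Set (Isom Q)), v = 1 ∨ ∃ π, π ≠ 1 ∧ f.HasPerm v π := by
    intro v hv
    simp only [Set.mem_insert_iff, Set.mem_singleton_iff] at hv
    rcases hv with rfl | rfl
    exacts [Or.inl rfl, Or.inr ⟨τ, hτ1, hs⟩]
  have hd : ∀ x ∈ A, ∀ V, x = f.flip V → V = ∅ ∨ V = Finset.univ := hA ▸ diag_pmSet hS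
  have hcomS : ∀ {x : Isom Q}, x * s = s * x → ∀ v ∈ A, x * v = v * x := by
    intro x h1
    rw [hA]
    refine commute_pmSet fun v hv => ?_
    simp only [Set.mem_insert_iff, Set.mem_singleton_iff] at hv
    rcases hv with rfl | rfl
    · rw [mul_one, one_mul]
    · exact h1
  have hsA : s ∈ A := hA ▸ ⟨s, by simp, Or.inl rfl⟩
  have hes : f.flip {a, τ a} * s = s * f.flip {a, τ a} := (hs.commute_pair (Or.inr ⟨rfl, hτ2 a⟩)).symm
  have hues : f.flip {o, o'} * s = s * f.flip {o, o'} := (hs.commute_pair (Or.inl ⟨ho, ho'⟩)).symm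
  have hoM : f.flip {o, o'} ∈ M := flip_mem hM (by rw [Finset.card_pair hoo]; decide)
  obtain ⟨c, hcM, hcm, hc2, hcA, hccA, hce, hcy⟩ := exists_next hM hH hMΩ (A := A) (g := g) (u := f.flip {o, o'})
    (hA ▸ one_mem_pmSet (by simp)) (hA ▸ mono_pmSet fun v hv => by
      rcases hS v hv with rfl | ⟨π, -, hπ⟩
      exacts [f.mono_one, hπ.mono]) hd hg (hcomS hgs) (Ne.symm ha) (hcomS hes) hoM (f.mono_flip _)
    (f.flip_mul_self _) (hcomS hues) (fun h _ hm hhA b hb => no_conj_pair hs hsA hd ha hoo ho hm hhA hb)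
  obtain ⟨σ, hσ⟩ := hcm.exists_hasPerm
  obtain ⟨y, hy⟩ : ∃ y, y = g * f.flip {o, o'} * g⁻¹ := ⟨_, rfl⟩
  rw [← hy] at hcy
  have hyM : y ∈ M := hy ▸ M.mul_mem (M.mul_mem hg hoM) (M.inv_mem hg)
  have hys : y * s = s * y := by
    have h3 : g⁻¹ * s = s * g⁻¹ := by
      rw [eq_mul_inv_iff_mul_eq, mul_assoc, ← hgs, ← mul_assoc, inv_mul_cancel, one_mul]
    rw [hy, mul_assoc, h3, ← mul_assoc, mul_assoc g, hues, ← mul_assoc, hgs]
    simp only [mul_assoc]
  have hym : f.Mono y := by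
    by_cases h1 : σ = 1
    · exact mono_of_perm_eq hM hH hMΩ hyM M.one_mem (one_mul 1) hcM hasPerm_one (h1 ▸ hσ) (by simp) hcy.symm
        (fun e => hcA (hA ▸ ⟨1, by simp, Or.inl e⟩)) (fun e => hcA (hA ▸ ⟨1, by simp, Or.inr e⟩))
    by_cases h2 : σ = τ
    · exact mono_of_perm_eq hM hH hMΩ hyM hsM hs2 hcM hs (h2 ▸ hσ) hys hcy.symm
        (fun e => hcA (hA ▸ ⟨s, by simp, Or.inl e⟩)) (fun e => hcA (hA ▸ ⟨s, by simp, Or.inr e⟩))
    exact mono_of_two hM hH hMΩ hyM hsM hs2 hs ha hcM hc2 hσ (hccA s hsA) hce h1 h2 hys hcy.symm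
  have h := mono_of_mono_conj hM hH hMΩ (M.inv_mem hg) hoo (by rw [inv_inv, ← hy]; exact hym)
  exact inv_inv g ▸ Mono.inv f h

/-- Without monomial columns off the monomial group, `M` is monomial. -/
theorem mono_of_noCol {g : Isom Q} (hg : g ∈ M) : f.Mono g := by
  classical
  obtain ⟨τ, hτ⟩ : ∃ τ : Equiv.Perm (Fin 6), τ = Equiv.swap 0 1 * Equiv.swap 2 3 := ⟨_, rfl⟩
  have hτs : Equiv.Perm.sign τ = 1 := by subst hτ; decide
  have hτ1 : τ ≠ 1 := by subst hτ; decide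
  have hτ2 : τ * τ = 1 := by subst hτ; decide
  obtain ⟨s, hsdef⟩ : ∃ s, s = f.permHom τ := ⟨_, rfl⟩
  have hs : f.HasPerm s τ := hsdef ▸ hasPerm_permHom τ
  have hsM : s ∈ M := hsdef ▸ hM.perm_mem hτs
  have hs2 : s * s = 1 := by rw [hsdef, ← map_mul, hτ2, map_one]
  obtain ⟨d, hd⟩ : ∃ d, d = f.flip ({4, 5} : Finset (Fin 6)) := ⟨_, rfl⟩
  have hdM : d ∈ M := hd ▸ flip_mem hM (by decide)
  have hds : d * s = s * d := by
    rw [hd]
    exact (hs.commute_pair (Or.inl (by subst hτ; decide))).symm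
  have hsdπ : f.HasPerm (s * d) τ := mul_one τ ▸ hs.mul (hd ▸ hasPerm_flip _)
  have hsd2 : s * d * (s * d) = 1 := by
    rw [show s * d * (s * d) = s * (d * s) * d by group, hds, show s * (s * d) * d = (s * s) * (d * d) by group,
      hs2, hd, f.flip_mul_self, one_mul]
  obtain ⟨A, hA⟩ : ∃ A, A = f.pmSet {(1 : Isom Q)} := ⟨_, rfl⟩
  have hS : ∀ v ∈ ({1} : Set (Isom Q)), v = 1 ∨ ∃ π, π ≠ 1 ∧ f.HasPerm v π := fun v hv => Or.inl hv
  have hd' : ∀ x ∈ A, ∀ V, x = f.flip V → V = ∅ ∨ V = Finset.univ := hA ▸ diag_pmSet hS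
  have hcom : ∀ x : Isom Q, ∀ v ∈ A, x * v = v * x := fun x =>
    hA ▸ commute_pmSet fun v hv => by rw [Set.mem_singleton_iff.1 hv, mul_one, one_mul]
  -- every conjugate of a monomial involution off the sign changes is monomial
  have step : ∀ u, u ∈ M → u * u = 1 → f.HasPerm u τ → f.Mono (g * u * g⁻¹) := by
    intro u hu hu2 huπ
    obtain ⟨c, hcM, hcm, hc2, hcA, -, -, hcy⟩ := exists_next hM hH hMΩ (A := A) (g := g) (u := u) (k := 0) (l := 1)
      (hA ▸ one_mem_pmSet (by simp)) (hA ▸ mono_pmSet fun v hv => by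
        rw [Set.mem_singleton_iff.1 hv]; exact f.mono_one) hd' hg (hcom g) (by decide) (hcom _) hu huπ.mono hu2
      (hcom u) (fun h _ hm _ a ha heq => by
        have hdiag : ∃ V, a = f.flip V := by
          rw [hA] at ha
          obtain ⟨v, hv, e | e⟩ := ha <;> rw [Set.mem_singleton_iff.1 hv] at e
          · exact ⟨∅, by rw [e, f.flip_empty]⟩
          · exact ⟨Finset.univ, by rw [e, mul_one]⟩
        obtain ⟨V, rfl⟩ := hdiag
        rw [f.flip_mul] at heq
        obtain ⟨π, hπ⟩ := (Mono.inv f hm).exists_hasPerm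
        refine hτ1 (huπ.unique ?_)
        have h4 := hπ.conj_flip (symmDiff {0, 1} V)
        rw [← heq, inv_inv, show h⁻¹ * (h * u * h⁻¹) * h = u by group] at h4
        exact h4 ▸ hasPerm_flip _)
    obtain ⟨σ, hσ⟩ := hcm.exists_hasPerm
    have hyM : g * u * g⁻¹ ∈ M := M.mul_mem (M.mul_mem hg hu) (M.inv_mem hg)
    by_cases h1 : σ = 1
    · exact mono_of_perm_eq hM hH hMΩ hyM M.one_mem (one_mul 1) hcM hasPerm_one (h1 ▸ hσ) (by simp) hcy.symm
        (fun e => hcA (hA ▸ ⟨1, by simp, Or.inl e⟩)) (fun e => hcA (hA ▸ ⟨1, by simp, Or.inr e⟩))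
    exact mono_of_comm_inv hM hH hMΩ hyM hcM hc2 hσ h1 hcy.symm
  have h45 : (4 : Fin 6) ≠ 5 := by decide
  have h := mono_of_mono_conj hM hH hMΩ (M.inv_mem hg) h45 (by
    rw [inv_inv]
    have e : g * f.flip ({4, 5} : Finset (Fin 6)) * g⁻¹ = g * s * g⁻¹ * (g * (s * d) * g⁻¹) := by
      rw [show g * s * g⁻¹ * (g * (s * d) * g⁻¹) = g * ((s * s) * d) * g⁻¹ by group, hs2, one_mul, hd]
    rw [e]
    exact Mono.mul f (step s hsM hs2 hs) (step (s * d) (M.mul_mem hsM hdM) hsd2 hsdπ))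
  exact inv_inv g ▸ Mono.inv f h

end Frame

end CfsgLib.OrthMono
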