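import Cfsg.Agent.OrthMono.Six.Levels
import Cfsg.Agent.OrthMono.Maximal

/-!
# Stabilisers of orthogonal frames in dimension six over prime fields

`isMaximalIn_frame_six`: in dimension six the elements of `Ω` permuting the lines of an orthogonal frame form a
maximal subgroup, over a prime field of odd order.
-/

set_option autoImplicit false
set_option linter.unusedSectionVars false

namespace CfsgLib.OrthMono

open Matrix Module CfsgLib.Spinor CfsgLib.Forms CfsgLib.OrthMax Cfsg.Geo

variable {F : Type*} [Field F] [Fintype F] {ι : Type} [Fintype ι] [DecidableEq ι] {Q : QuadraticForm F (ι → F)}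

/-- A subgroup of `Ω` with the monomial elements and one more contains all of `Ω`, in dimension six. -/
theorem Frame.omega_le_of_nonmono_six {f : Frame Q 6} {M : Subgroup (Isom Q)} (hM : f.HasMono M)
    (hp : (Fintype.card F).Prime) (hMΩ : M ≤ Cfsg.Omega F ⇑Q) {x : Isom Q} (hx : x ∈ M) (hnm : ¬f.Mono x) :
    Cfsg.Omega F ⇑Q ≤ M := by
  by_cases hH : f.NoCol M
  · exact absurd (Frame.mono_of_noCol hM hH hMΩ hx) hnm
  · unfold Frame.NoCol at hH
    push Not at hH
    obtain ⟨y, hy, i, j, a, hcol, hynm⟩ := hH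
    exact Frame.Seven.omega_le_of_col hM hp hMΩ (by norm_num) hy hcol hynm

variable {t : ℕ} {D : Fin t → Submodule F (ι → F)}

/-- The stabiliser of a frame in dimension six is maximal. -/
theorem isMaximalIn_frame_six (h : DSys Q 1 D) (hn : Fintype.card ι = 6) (ht : t = 6)
    (hp : (Fintype.card F).Prime) (h2 : (2 : F) ≠ 0) :
    IsMaximalIn (omegaGL ⇑Q) (decompositionStabilizer D ⊓ omegaGL ⇑Q) := by
  subst ht
  obtain ⟨f, hf⟩ := exists_frame h h2
  refine isMaximalIn_omega _ ?_ fun M hM g hgM hgΩ hgS => ?_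
  · obtain ⟨i⟩ : Nonempty (Fin 6) := ⟨0⟩
    refine exists_move_decomp h.nondeg (by omega) h.orth (h.nd i) (fun e => ?_) ?_
    · have := h.dim i
      rw [e, finrank_bot] at this
      omega
    · rw [finrank_qperp h.nondeg, h.dim]
      omega
  · refine le_trans (Frame.omega_le_of_nonmono_six (f := f) (M := M ⊓ Cfsg.Omega F ⇑Q) ?_ hp inf_le_right
      (x := g) ⟨hgM, hgΩ⟩ fun hm => hgS ((f.mem_stab_iff hf g).2 hm)) inf_le_left
    exact fun k hk hkm => ⟨hM k hk ((f.mem_stab_iff hf k).2 hkm), hk⟩

end CfsgLib.OrthMono
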