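import Cfsg.Agent.OrthMono.OddLast
import Cfsg.Agent.OrthMono.SevenSmall

/-!
# Roots of monomial reflections, and centralisers of sign changes at two coordinates

`mono_of_commute_pair`: when no element off the monomial group has a monomial column, an element of `M`
commuting with the sign change at two coordinates is monomial.
-/

set_option autoImplicit false
set_option linter.unusedSectionVars false

namespace CfsgLib.OrthMono

open Matrix Module CfsgLib.Spinor CfsgLib.Forms CfsgLib.OrthMax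

variable {F : Type*} [Field F] [Fintype F] {ι : Type} [Fintype ι] [DecidableEq ι] {Q : QuadraticForm F (ι → F)}

set_option quotPrecheck false in
local notation "𝔅" => QuadraticMap.polar (⇑Q)

theorem ap_rf_of_perp {v x : ι → F} (h : 𝔅 v x = 0) : ap (rf v : Isom Q) x = x := by
  by_cases hv : Q v ≠ 0
  · rw [ap_rf hv, h, mul_zero, zero_smul, sub_zero]
  · unfold rf
    rw [dif_neg hv, ap_one]

theorem rf_neg (v : ι → F) : (rf (-v) : Isom Q) = rf v := by
  rw [← neg_one_smul F v, rf_smul (neg_ne_zero.2 one_ne_zero)]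

/-- A reflection commutes with an isometry negating or fixing its root. -/
theorem rf_comm {g : Isom Q} {v : ι → F} (h : ap g v = v ∨ ap g v = -v) : g * rf v = rf v * g := by
  have h1 : g * rf v * g⁻¹ = rf v := by
    rw [conj_rf]
    rcases h with e | e <;> rw [e]
    exact rf_neg v
  rwa [mul_inv_eq_iff_eq_mul] at h1

/-- Two orthogonal roots of one value and their sum and difference give one rotation. -/
theorem rf_rot {x y : ι → F} (h2 : (2 : F) ≠ 0) (hx : Q x ≠ 0) (hy : Q y = Q x) (hxy : 𝔅 x y = 0) :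
    (rf (x + y) : Isom Q) * rf (x - y) = rf x * rf y := by
  have hs : Q (x + y) = 2 * Q x := by
    rw [QuadraticMap.map_add (⇑Q), hy, hxy]; ring
  have hd : Q (x - y) = 2 * Q x := by
    rw [sub_eq_add_neg, QuadraticMap.map_add (⇑Q), QuadraticMap.map_neg, hy, QuadraticMap.polar_neg_right, hxy]
    ring
  have hxy' : 𝔅 y x = 0 := by rw [QuadraticMap.polar_comm, hxy]
  have hy0 : Q y ≠ 0 := hy.symm ▸ hx
  refine ext_ap fun z => ?_
  rw [ap_mul, ap_mul, ap_rf (v := x - y) (by rw [hd]; exact mul_ne_zero h2 hx),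
    ap_rf (v := x + y) (by rw [hs]; exact mul_ne_zero h2 hx), ap_rf (v := y) hy0, ap_rf (v := x) hx, hs, hd, hy]
  simp only [QuadraticMap.polar_sub_right, QuadraticMap.polar_smul_right, QuadraticMap.polar_add_left,
    QuadraticMap.polar_sub_left, QuadraticMap.polar_add_right, smul_eq_mul, polar_self' Q, hxy, hxy', hy]
  match_scalars <;> field_simp <;> ring

namespace Frame

variable {n : ℕ} {f : Frame Q n} {M : Subgroup (Isom Q)}

theorem det_flip (U : Finset (Fin n)) : (mat Q (f.flip U)).det = (-1) ^ U.card := by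
  induction U using Finset.induction_on with
  | empty => rw [flip_empty, mat_one, Matrix.det_one, Finset.card_empty, pow_zero]
  | insert a U ha ih =>
    have e : f.flip (insert a U) = rf (f.b a) * f.flip U := by
      rw [← f.flip_singleton_eq, flip_mul]
      congr 1
      ext z
      simp only [Finset.mem_symmDiff, Finset.mem_insert, Finset.mem_singleton]
      constructor
      · rintro (rfl | h)
        · exact Or.inl ⟨rfl, ha⟩
        · exact Or.inr ⟨h, fun e => ha (e ▸ h)⟩
      · rintro (⟨h, -⟩ | ⟨h, -⟩)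
        · exact Or.inl h
        · exact Or.inr h
    rw [e, mat_mul, Matrix.det_mul, det_rf (f.quad_ne a), ih, Finset.card_insert_of_notMem ha, pow_succ, mul_comm]

theorem even_of_flip_mem (hMΩ : M ≤ Cfsg.Omega F ⇑Q) {U : Finset (Fin n)} (h : f.flip U ∈ M) : Even U.card := by
  by_contra ho
  have h1 := det_of_omega (hMΩ h)
  rw [det_flip, (Nat.not_even_iff_odd.1 ho).neg_one_pow] at h1
  exact f.two (by linear_combination -h1)

theorem dot_sub_right (x y z : ι → F) : f.dot x (y - z) = f.dot x y - f.dot x z := by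
  simp only [dot, map_sub, Pi.sub_apply, mul_sub, Finset.sum_sub_distrib]

theorem polar_eq_zero_iff {x y : ι → F} : 𝔅 x y = 0 ↔ f.dot x y = 0 := by
  rw [f.polar_eq, mul_eq_zero, or_iff_right f.two_c]

theorem ap_flip_eq_self_iff {U : Finset (Fin n)} {x : ι → F} :
    ap (f.flip U) x = x ↔ ∀ i ∈ U, f.co x i = 0 := by
  constructor
  · intro h i hi
    have h1 := congrArg (fun v => f.co v i) h
    simp only [co_flip, if_pos hi] at h1
    exact (mul_eq_zero.1 (by linear_combination -h1 : (2 : F) * f.co x i = 0)).resolve_left f.two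
  · intro h
    refine f.co_ext fun i => ?_
    rw [co_flip]
    split_ifs with hi
    · rw [h i hi, neg_zero]
    · rfl

theorem dot_pair {i j : Fin n} (hij : i ≠ j) {x : ι → F} (hx : x ∈ f.sub {i, j}) (y : ι → F) :
    f.dot x y = f.co x i * f.co y i + f.co x j * f.co y j := by
  classical
  rw [dot_eq_sum _ hx, Finset.sum_pair hij]

theorem dot_eq_zero_of_zeros {U : Finset (Fin n)} {x y : ι → F} (hx : x ∈ f.sub U) (hy : ∀ i ∈ U, f.co y i = 0) :
    f.dot x y = 0 := by
  rw [dot_eq_sum _ hx]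
  exact Finset.sum_eq_zero fun i hi => by rw [hy i hi, mul_zero]

/-- A vector of a coordinate plane orthogonal to two orthogonal anisotropic vectors of it is zero. -/
theorem eq_zero_of_pair {p q : Fin n} (hpq : p ≠ q) {u v z : ι → F} (hu : u ∈ f.sub {p, q}) (hv : v ∈ f.sub {p, q})
    (hz : z ∈ f.sub {p, q}) (hu0 : Q u ≠ 0) (hv0 : Q v ≠ 0) (huv : 𝔅 u v = 0) (huz : 𝔅 u z = 0)
    (hvz : 𝔅 v z = 0) : z = 0 := by
  classical
  rw [f.polar_eq_zero_iff, dot_pair hpq hu] at huv huz
  rw [f.polar_eq_zero_iff, dot_pair hpq hv] at hvz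
  have hu' : f.co u p * f.co u p + f.co u q * f.co u q ≠ 0 := fun h => hu0 (by
    rw [f.quad_eq, dot_pair hpq hu, h, mul_zero])
  have hv' : f.co v p * f.co v p + f.co v q * f.co v q ≠ 0 := fun h => hv0 (by
    rw [f.quad_eq, dot_pair hpq hv, h, mul_zero])
  have hD : f.co u p * f.co v q - f.co u q * f.co v p ≠ 0 := fun h => mul_ne_zero hu' hv' (by
    linear_combination (f.co u p * f.co v q - f.co u q * f.co v p) * h +
      (f.co u p * f.co v p + f.co u q * f.co v q) * huv)
  refine f.co_ext fun i => ?_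
  rw [map_zero, Pi.zero_apply]
  by_cases hi : i ∈ ({p, q} : Finset (Fin n))
  · rcases Finset.mem_insert.1 hi with rfl | hi'
    · exact (mul_eq_zero.1 (by linear_combination f.co v q * huz - f.co u q * hvz :
        (f.co u i * f.co v q - f.co u q * f.co v i) * f.co z i = 0)).resolve_left hD
    · rw [Finset.mem_singleton] at hi'
      subst hi'
      exact (mul_eq_zero.1 (by linear_combination f.co u p * hvz - f.co v p * huz :
        (f.co u p * f.co v i - f.co u i * f.co v p) * f.co z i = 0)).resolve_left hD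
  · exact hz i hi

/-- Two orthogonal anisotropic roots of a coordinate plane give its sign change. -/
theorem rf_mul_rf_eq_flip {p q : Fin n} (hpq : p ≠ q) {u v : ι → F} (hu : u ∈ f.sub {p, q}) (hv : v ∈ f.sub {p, q})
    (hu0 : Q u ≠ 0) (hv0 : Q v ≠ 0) (huv : 𝔅 u v = 0) : (rf u : Isom Q) * rf v = f.flip {p, q} := by
  classical
  refine f.ext_b fun i => ?_
  rw [flip_b, ap_mul]
  by_cases hi : i ∈ ({p, q} : Finset (Fin n))
  · rw [if_pos hi, neg_one_smul, ← sub_eq_zero, sub_neg_eq_add]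
    have hvu : 𝔅 v u = 0 := by rw [QuadraticMap.polar_comm, huv]
    refine eq_zero_of_pair hpq hu hv ?_ hu0 hv0 huv ?_ ?_
    · rw [ap_rf hv0, ap_rf hu0]
      refine Submodule.add_mem _ (Submodule.sub_mem _ (Submodule.sub_mem _ (f.b_mem_sub _ hi) ?_) ?_)
        (f.b_mem_sub _ hi)
      · exact Submodule.smul_mem _ _ hv
      · exact Submodule.smul_mem _ _ hu
    · rw [ap_rf hv0, ap_rf hu0]
      simp only [QuadraticMap.polar_add_right, QuadraticMap.polar_sub_right, QuadraticMap.polar_smul_right,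
        smul_eq_mul, huv, mul_zero, sub_zero, polar_self']
      field_simp
      ring
    · rw [ap_rf hv0, ap_rf hu0]
      simp only [QuadraticMap.polar_add_right, QuadraticMap.polar_sub_right, QuadraticMap.polar_smul_right,
        smul_eq_mul, huv, hvu, mul_zero, sub_zero, polar_self']
      field_simp
      ring
  · rw [if_neg hi, one_smul]
    have hzero : ∀ w ∈ f.sub {p, q}, 𝔅 w (f.b i) = 0 := fun w hw => by
      rw [f.polar_b_right, hw i hi, mul_zero]
    rw [ap_rf_of_perp (hzero v hv), ap_rf_of_perp (hzero u hu)]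

/-- The vector with one sign and two places. -/
theorem quad_add_smul_b {p q : Fin n} (hpq : p ≠ q) {s : F} (hs : s * s = 1) :
    Q (f.b p + s • f.b q) = 2 * f.c := by
  rw [QuadraticMap.map_add (⇑Q), QuadraticMap.map_smul, QuadraticMap.polar_smul_right, f.orth p q hpq, smul_zero,
    add_zero, f.quad, f.quad, smul_eq_mul, hs]
  ring

theorem rf_add_smul_b_b {p q : Fin n} (hpq : p ≠ q) {s : F} (hs : s * s = 1) :
    ap (rf (f.b p + s • f.b q) : Isom Q) (f.b p) = (-s) • f.b q ∧
      ap (rf (f.b p + s • f.b q) : Isom Q) (f.b q) = (-s) • f.b p ∧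
      ∀ i, i ≠ p → i ≠ q → ap (rf (f.b p + s • f.b q) : Isom Q) (f.b i) = f.b i := by
  have hq := quad_add_smul_b (f := f) hpq hs
  have h0 : Q (f.b p + s • f.b q) ≠ 0 := hq ▸ f.two_c
  refine ⟨?_, ?_, fun i h1 h2 => ap_rf_of_perp ?_⟩
  · rw [ap_rf h0, hq, QuadraticMap.polar_add_left, QuadraticMap.polar_smul_left, f.orth q p hpq.symm,
      polar_self', f.quad, smul_zero, add_zero, inv_mul_cancel₀ f.two_c, one_smul]
    module
  · rw [ap_rf h0, hq, QuadraticMap.polar_add_left, QuadraticMap.polar_smul_left, f.orth p q hpq,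
      polar_self', f.quad, smul_eq_mul, zero_add, ← mul_left_comm, inv_mul_cancel₀ f.two_c, mul_one, smul_add,
      smul_smul, hs, one_smul]
    module
  · rw [QuadraticMap.polar_add_left, QuadraticMap.polar_smul_left, f.orth p i (Ne.symm h1), f.orth q i (Ne.symm h2),
      smul_zero, add_zero]

/-- A reflection in a root with two equal squares is monomial. -/
theorem mono_rf_add_smul {p q : Fin n} (hpq : p ≠ q) {s : F} (hs : s * s = 1) :
    f.Mono (rf (f.b p + s • f.b q) : Isom Q) := fun i => by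
  obtain ⟨h1, h2, h3⟩ := rf_add_smul_b_b (f := f) hpq hs
  rcases eq_or_ne i p with rfl | hip
  · exact ⟨q, -s, h1⟩
  rcases eq_or_ne i q with rfl | hiq
  · exact ⟨p, -s, h2⟩
  exact ⟨i, 1, by rw [h3 i hip hiq, one_smul]⟩

/-- The root of a monomial reflection has support at most two. -/
theorem supp_le_two_of_mono_rf {v : ι → F} (hv : Q v ≠ 0) (h : f.Mono (rf v : Isom Q)) :
    (f.supp v).card ≤ 2 := by
  classical
  rcases (f.supp v).eq_empty_or_nonempty with e | ⟨k, hk⟩
  · simp [e]
  obtain ⟨j, a, hj⟩ := h k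
  refine (Finset.card_le_card (t := {k, j}) fun l hl => ?_).trans Finset.card_le_two
  by_contra hl'
  simp only [Finset.mem_insert, Finset.mem_singleton, not_or] at hl'
  have h1 := congrArg (fun x => f.co x l) hj
  simp only [ap_rf hv, map_sub, map_smul, Pi.sub_apply, Pi.smul_apply, f.co_b, if_neg hl'.1, if_neg hl'.2,
    f.polar_b_right, smul_eq_mul, mul_zero, zero_sub, neg_eq_zero] at h1
  exact mul_ne_zero (mul_ne_zero (inv_ne_zero hv) (mul_ne_zero f.two_c (f.mem_supp.1 hk))) (f.mem_supp.1 hl) h1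

/-- Orthogonal roots of small support with difference of small support lie in one coordinate plane. -/
theorem card_union_le_two {x y : ι → F} (hxy : 𝔅 x y = 0) (hx : (f.supp x).card ≤ 2) (hy : (f.supp y).card ≤ 2)
    (hd : (f.supp (x - y)).card ≤ 2) : (f.supp x ∪ f.supp y).card ≤ 2 := by
  classical
  rw [f.polar_eq_zero_iff] at hxy
  rcases (f.supp x ∩ f.supp y).eq_empty_or_nonempty with e | ⟨q, hq⟩
  · refine (Finset.card_le_card fun i hi => ?_).trans hd
    rw [f.mem_supp, map_sub, Pi.sub_apply]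
    have hne : ¬(i ∈ f.supp x ∧ i ∈ f.supp y) := fun h => by
      have : i ∈ f.supp x ∩ f.supp y := Finset.mem_inter.2 h
      simp [e] at this
    rcases Finset.mem_union.1 hi with h | h
    · rw [f.notMem_supp.1 fun h' => hne ⟨h, h'⟩, sub_zero]; exact f.mem_supp.1 h
    · rw [f.notMem_supp.1 fun h' => hne ⟨h', h⟩, zero_sub, neg_ne_zero]; exact f.mem_supp.1 h
  by_cases h1 : (f.supp x ∩ f.supp y).card ≤ 1
  · exfalso
    rw [Finset.mem_inter] at hq
    rw [Frame.dot, Finset.sum_eq_single q (fun z _ hz => ?_) (fun h => absurd (Finset.mem_univ q) h)] at hxy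
    · exact mul_ne_zero (f.mem_supp.1 hq.1) (f.mem_supp.1 hq.2) hxy
    · by_contra h
      have h' := mul_ne_zero_iff.1 h
      exact hz (Finset.card_le_one.1 h1 z (Finset.mem_inter.2 ⟨f.mem_supp.2 h'.1, f.mem_supp.2 h'.2⟩) q
        (Finset.mem_inter.2 hq))
  · have ex := Finset.eq_of_subset_of_card_le (Finset.inter_subset_left (s₁ := f.supp x) (s₂ := f.supp y)) (by omega)
    have ey := Finset.eq_of_subset_of_card_le (Finset.inter_subset_right (s₁ := f.supp x) (s₂ := f.supp y)) (by omega)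
    have exy : f.supp x = f.supp y := ex.symm.trans ey
    rwa [exy, Finset.union_self]

variable (hM : f.HasMono M) (hH : f.NoCol M) (hn : 5 ≤ n)
include hM hH

omit hM in
theorem mono_of_fix {g : Isom Q} (hg : g ∈ M) {i : Fin n} (h : ap g (f.b i) = f.b i) : f.Mono g :=
  hH g hg i i 1 (by rw [h, one_smul])

omit hM in
theorem mono_of_supp {g : Isom Q} (hg : g ∈ M) {i : Fin n} (h : (f.supp (ap g (f.b i))).card ≤ 1) :
    f.Mono g := by
  obtain ⟨j, a, e⟩ := f.coord_of_card_le (by rw [quad_ap, f.quad]) h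
  exact hH g hg i j a e

include hn

/-- An element commuting with the sign change at two coordinates is monomial. -/
theorem mono_of_commute_pair {g : Isom Q} (hg : g ∈ M) {i j : Fin n} (hij : i ≠ j)
    (hc : g * f.flip {i, j} = f.flip {i, j} * g) : f.Mono g := by
  classical
  by_contra hnm
  have hgi : g⁻¹ ∈ M := M.inv_mem hg
  have hc' : g⁻¹ * f.flip {i, j} = f.flip {i, j} * g⁻¹ := by
    rw [eq_mul_inv_iff_mul_eq, mul_assoc, ← hc, ← mul_assoc, inv_mul_cancel, one_mul]
  have hpl : ∀ {h : Isom Q}, h * f.flip {i, j} = f.flip {i, j} * h →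
      ∀ x ∈ f.sub {i, j}, ap h x ∈ f.sub {i, j} := fun {h} e x hx => by
    rw [f.mem_sub_iff_flip, ← ap_mul, ← e, ap_mul, f.mem_sub_iff_flip.1 hx, map_neg]
  have hS : ∀ {h : Isom Q}, h * f.flip {i, j} = f.flip {i, j} * h →
      ∀ x, (∀ l ∈ ({i, j} : Finset (Fin n)), f.co x l = 0) →
        ∀ l ∈ ({i, j} : Finset (Fin n)), f.co (ap h x) l = 0 := fun {h} e x hx => by
    rw [← ap_flip_eq_self_iff, ← ap_mul, ← e, ap_mul, ap_flip_eq_self_iff.2 hx]
  have hbS : ∀ m, m ∉ ({i, j} : Finset (Fin n)) → ∀ l ∈ ({i, j} : Finset (Fin n)), f.co (ap g (f.b m)) l = 0 :=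
    fun m hm => hS hc _ fun l hl => by rw [f.co_b, if_neg fun e : l = m => hm (e ▸ hl)]
  have hout : 3 ≤ (Finset.univ \ ({i, j} : Finset (Fin n))).card := by
    rw [Finset.card_univ_sdiff, Finset.card_pair hij, Fintype.card_fin]; omega
  -- some column has two equal squares
  obtain ⟨k, hk, p, q, hpq, hp, hq, δ, hδ, hvq⟩ : ∃ k, k ∉ ({i, j} : Finset (Fin n)) ∧ ∃ p q, p ≠ q ∧
      p ∉ ({i, j} : Finset (Fin n)) ∧ q ∉ ({i, j} : Finset (Fin n)) ∧
      ∃ δ : F, δ * δ = 1 ∧ f.co (ap g (f.b k)) q = δ * f.co (ap g (f.b k)) p := by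
    by_contra hno
    push Not at hno
    have hdiag : ∀ k l, k ∉ ({i, j} : Finset (Fin n)) → l ∉ ({i, j} : Finset (Fin n)) → k ≠ l →
        ∃ V, g * f.flip {k, l} * g⁻¹ = f.flip V := by
      intro k l hk hl hkl
      obtain ⟨w, hw⟩ : ∃ w, w = g * f.flip {k, l} * g⁻¹ := ⟨_, rfl⟩
      have hwM : w ∈ M := hw ▸ M.mul_mem (M.mul_mem hg (flip_mem hM (by rw [Finset.card_pair hkl]; decide))) hgi
      have hwfix : ∀ a ∈ ({i, j} : Finset (Fin n)), ap w (f.b a) = f.b a := fun a ha => by
        have h1 := hpl hc' _ (f.b_mem_sub _ ha)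
        rw [hw, ap_mul, ap_mul, ap_flip_eq_self_iff.2 fun z hz => h1 z ?_, ap_ap_inv]
        simp only [Finset.mem_insert, Finset.mem_singleton] at hz
        rcases hz with rfl | rfl <;> assumption
      have hwm : f.Mono w := mono_of_fix hH hwM (hwfix i (by simp))
      obtain ⟨π, d, hd, hπ⟩ := hwm.exists_perm f
      have hfix : ∀ a ∈ ({i, j} : Finset (Fin n)), π a = a := fun a ha => by
        by_contra hne
        have h1 := congrArg (fun v => f.co v a) ((hπ a).symm.trans (hwfix a ha))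
        simp [f.co_b, if_neg (Ne.symm hne)] at h1
      by_cases hone : π = 1
      · obtain ⟨V, hV⟩ := f.exists_flip_of_perm ⟨w, hwm⟩
          (f.permOf_eq _ fun z => ⟨d z, by rw [hπ, hone]⟩)
        exact ⟨V, hw ▸ hV⟩
      obtain ⟨a, ha⟩ : ∃ a, π a ≠ a := by
        by_contra h
        push Not at h
        exact hone (Equiv.ext h)
      have ha1 : a ∉ ({i, j} : Finset (Fin n)) := fun h => ha (hfix a h)
      have ha2 : π a ∉ ({i, j} : Finset (Fin n)) := fun h => ha (π.injective (hfix _ h))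
      exfalso
      refine hno k hk a (π a) (Ne.symm ha) ha1 ha2 (-d a) ?_ ?_
      · rcases hd a with e | e <;> rw [e] <;> ring
      · have h1 : ap w (ap g (f.b k)) = -ap g (f.b k) := by
          rw [hw, ap_mul, ap_mul, ap_inv_ap, flip_b, if_pos (by simp), map_smul, neg_one_smul]
        have h2 := f.co_mono hπ (ap g (f.b k)) a
        rw [h1, map_neg, Pi.neg_apply] at h2
        linear_combination -h2
    obtain ⟨k, hk⟩ := Finset.card_pos.1 (show 0 < (Finset.univ \ ({i, j} : Finset (Fin n))).card by omega)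
    obtain ⟨l, hl, hlk⟩ := Finset.exists_mem_ne (by omega : 1 < (Finset.univ \ ({i, j} : Finset (Fin n))).card) k
    obtain ⟨l', hl', hl'2⟩ := Finset.exists_mem_notMem_of_card_lt_card (s := ({k, l} : Finset (Fin n)))
      (t := Finset.univ \ ({i, j} : Finset (Fin n))) (by have := Finset.card_le_two (a := k) (b := l); omega)
    simp only [Finset.mem_sdiff, Finset.mem_univ, true_and] at hk hl hl'
    simp only [Finset.mem_insert, Finset.mem_singleton, not_or] at hl'2
    obtain ⟨V, hV⟩ := hdiag k l hk hl (Ne.symm hlk)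
    obtain ⟨V', hV'⟩ := hdiag k l' hk hl' (Ne.symm hl'2.1)
    exact hnm (mono_of_two_pairs hM hH hg (Ne.symm hlk) (Ne.symm hl'2.1) (Ne.symm hl'2.2) hV hV')
  simp only [Finset.mem_insert, Finset.mem_singleton, not_or] at hp hq
  -- a monomial double transposition fixing that column
  have hδn : (-δ) * (-δ) = 1 := by rw [neg_mul_neg, hδ]
  have hr1 : Q (f.b i + (-1 : F) • f.b j) = 2 * f.c := quad_add_smul_b hij (by ring)
  have hr2 : Q (f.b q + (-δ) • f.b p) = 2 * f.c := quad_add_smul_b (Ne.symm hpq) hδn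
  obtain ⟨r₁, hr₁⟩ : ∃ r, r = f.b i + (-1 : F) • f.b j := ⟨_, rfl⟩
  obtain ⟨r₂, hr₂⟩ : ∃ r, r = f.b q + (-δ) • f.b p := ⟨_, rfl⟩
  rw [← hr₁] at hr1
  rw [← hr₂] at hr2
  have hr10 : Q r₁ ≠ 0 := hr1 ▸ f.two_c
  have hzM : (rf r₁ : Isom Q) * rf r₂ ∈ M := hM _ (rf_mul_mem_omega f.nondeg f.two hr10 (hr2.trans hr1.symm))
    (Mono.mul f (hr₁ ▸ mono_rf_add_smul hij (by ring)) (hr₂ ▸ mono_rf_add_smul (Ne.symm hpq) hδn))
  have hvfix : ap ((rf r₁ : Isom Q) * rf r₂) (ap g (f.b k)) = ap g (f.b k) := by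
    have e1 : 𝔅 r₁ (ap g (f.b k)) = 0 := by
      rw [hr₁, QuadraticMap.polar_add_left, QuadraticMap.polar_smul_left, f.polar_b_left, f.polar_b_left,
        hbS k hk i (by simp), hbS k hk j (by simp)]
      simp
    have e2 : 𝔅 r₂ (ap g (f.b k)) = 0 := by
      rw [hr₂, QuadraticMap.polar_add_left, QuadraticMap.polar_smul_left, f.polar_b_left, f.polar_b_left, hvq,
        smul_eq_mul]
      ring
    rw [ap_mul, ap_rf_of_perp e2, ap_rf_of_perp e1]
  obtain ⟨w, hw⟩ : ∃ w, w = ap g⁻¹ r₁ := ⟨_, rfl⟩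
  obtain ⟨w', hw'⟩ : ∃ w', w' = ap g⁻¹ r₂ := ⟨_, rfl⟩
  have hr1P : r₁ ∈ f.sub {i, j} := hr₁ ▸ Submodule.add_mem _ (f.b_mem_sub _ (by simp))
    (Submodule.smul_mem _ _ (f.b_mem_sub _ (by simp)))
  have hwP : w ∈ f.sub {i, j} := hw ▸ hpl hc' _ hr1P
  have hw'S : ∀ l ∈ ({i, j} : Finset (Fin n)), f.co w' l = 0 := hw' ▸ hS hc' _ fun l hl => by
    simp only [Finset.mem_insert, Finset.mem_singleton] at hl
    rw [hr₂, map_add, map_smul, Pi.add_apply, Pi.smul_apply, f.co_b, f.co_b]
    rcases hl with rfl | rfl <;> simp [Ne.symm hp.1, Ne.symm hp.2, Ne.symm hq.1, Ne.symm hq.2]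
  obtain ⟨y, hy⟩ : ∃ y, y = (rf w : Isom Q) * rf w' := ⟨_, rfl⟩
  have hye : y = g⁻¹ * (rf r₁ * rf r₂) * g := by
    rw [hy, hw, hw', ← conj_rf, ← conj_rf]; group
  have hym : f.Mono y := mono_of_fix hH (hye ▸ M.mul_mem (M.mul_mem hgi hzM) hg) (i := k) (by
    rw [hye, ap_mul, ap_mul, hvfix, ap_inv_ap])
  have hwq : Q w = 2 * f.c := by rw [hw, quad_ap, hr1]
  have hwdot : f.co w i * f.co w i + f.co w j * f.co w j = 2 := by
    have h1 := f.quad_eq w
    rw [hwq, dot_pair hij hwP] at h1
    exact mul_left_cancel₀ f.c_ne (h1.symm.trans (mul_comm _ _))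
  obtain ⟨m₀, a₀, hya⟩ := hym i
  have hcoi : ∀ l, f.co (ap y (f.b i)) l = (if l = i then 1 else 0) - f.co w i * f.co w l := fun l => by
    rw [hy, ap_mul, ap_rf_of_perp (show 𝔅 w' (f.b i) = 0 by rw [f.polar_b_right, hw'S i (by simp), mul_zero]),
      ap_rf (hwq ▸ f.two_c), map_sub, map_smul, Pi.sub_apply, Pi.smul_apply, f.co_b, smul_eq_mul, f.polar_b_right,
      hwq, inv_mul_cancel_left₀ f.two_c]
  have hprod : f.co (ap y (f.b i)) i * f.co (ap y (f.b i)) j = 0 := by
    rw [hya]
    simp only [map_smul, Pi.smul_apply, f.co_b, smul_eq_mul]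
    rcases eq_or_ne i m₀ with rfl | h
    · simp [hij.symm]
    · simp [h]
  rw [hcoi, hcoi, if_pos rfl, if_neg hij.symm] at hprod
  have hcase : f.co w i * f.co w i = 1 ∨ f.co w i = 0 ∨ f.co w j = 0 := by
    rcases mul_eq_zero.1 hprod with h | h
    · exact Or.inl (by linear_combination -h)
    · rw [zero_sub, neg_eq_zero] at h
      exact Or.inr (mul_eq_zero.1 h)
  rcases hcase with h1 | h1
  · -- the image of a frame vector is monomial
    obtain ⟨v, hv⟩ : ∃ v, v = ap g⁻¹ (f.b i + (1 : F) • f.b j) := ⟨_, rfl⟩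
    have hvP : v ∈ f.sub {i, j} := hv ▸ hpl hc' _ (Submodule.add_mem _ (f.b_mem_sub _ (by simp))
      (Submodule.smul_mem _ _ (f.b_mem_sub _ (by simp))))
    have hvdot : f.co v i * f.co v i + f.co v j * f.co v j = 2 := by
      have e1 := f.quad_eq v
      rw [hv, quad_ap, quad_add_smul_b hij (by ring), ← hv, dot_pair hij hvP] at e1
      exact mul_left_cancel₀ f.c_ne (e1.symm.trans (mul_comm _ _))
    have hwv : f.co w i * f.co v i + f.co w j * f.co v j = 0 := by
      rw [← dot_pair hij hwP, ← f.polar_eq_zero_iff, hw, hv, polar_ap, hr₁]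
      simp [QuadraticMap.polar_add_left, QuadraticMap.polar_add_right, f.polar_b, hij, hij.symm]
    have hwj : f.co w j * f.co w j = 1 := by linear_combination hwdot - h1
    have hsum : (2 : F) • ap g⁻¹ (f.b i) = w + v := by
      rw [hw, hv, hr₁, ← map_add, ← map_smul]
      congr 1
      module
    refine hnm (inv_inv g ▸ Mono.inv f (mono_of_supp hH hgi (i := i) ?_))
    have hsub : f.supp (ap g⁻¹ (f.b i)) ⊆ {i, j} := fun l hl => by
      by_contra hl'
      exact f.mem_supp.1 hl (hpl hc' _ (f.b_mem_sub _ (by simp)) l hl')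
    have h0 : f.co (ap g⁻¹ (f.b i)) i * f.co (ap g⁻¹ (f.b i)) j = 0 := by
      have ei := congrArg (fun x => f.co x i) hsum
      have ej := congrArg (fun x => f.co x j) hsum
      simp only [map_smul, map_add, Pi.smul_apply, Pi.add_apply, smul_eq_mul] at ei ej
      have hvi : f.co v i = -(f.co w i * f.co w j) * f.co v j := by
        linear_combination f.co w i * hwv - f.co v i * h1
      have hz : (f.co w i + f.co v i) * (f.co w j + f.co v j) = 0 := by
        rw [hvi]
        have hvj : f.co v j * f.co v j = 1 := by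
          have e2 : (2 : F) * (f.co v j * f.co v j) = 2 * 1 := by
            rw [hvi] at hvdot
            linear_combination hvdot - f.co v j * f.co v j * f.co w j * f.co w j * h1 -
              f.co v j * f.co v j * hwj
          exact mul_left_cancel₀ f.two e2
        linear_combination -f.co w i * f.co w j * hvj - f.co w i * f.co v j * hwj
      rw [← ei, ← ej] at hz
      exact (mul_eq_zero.1 (by linear_combination hz :
        ((2 : F) * 2) * (f.co (ap g⁻¹ (f.b i)) i * f.co (ap g⁻¹ (f.b i)) j) = 0)).resolve_left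
          (mul_ne_zero f.two f.two)
    rcases mul_eq_zero.1 h0 with h | h
    · exact Finset.card_le_one.2 fun x hx z hz => by
        have hx' := hsub hx
        have hz' := hsub hz
        simp only [Finset.mem_insert, Finset.mem_singleton] at hx' hz'
        rcases hx' with rfl | rfl <;> rcases hz' with rfl | rfl <;>
          first | rfl | exact absurd h (f.mem_supp.1 hx) | exact absurd h (f.mem_supp.1 hz)
    · exact Finset.card_le_one.2 fun x hx z hz => by
        have hx' := hsub hx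
        have hz' := hsub hz
        simp only [Finset.mem_insert, Finset.mem_singleton] at hx' hz'
        rcases hx' with rfl | rfl <;> rcases hz' with rfl | rfl <;>
          first | rfl | exact absurd h (f.mem_supp.1 hx) | exact absurd h (f.mem_supp.1 hz)
  -- two is a square and the plane is turned by half a right angle
  obtain ⟨P, P', hPP, hP, hwP0⟩ : ∃ P P', P ≠ P' ∧ ({P, P'} : Finset (Fin n)) = {i, j} ∧ f.co w P' = 0 := by
    rcases h1 with h | h
    · exact ⟨j, i, hij.symm, Finset.pair_comm j i, h⟩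
    · exact ⟨i, j, hij, rfl, h⟩
  have hwb : w = f.co w P • f.b P := f.eq_smul_b fun l hl => by
    by_cases h : l = P'
    · rw [h, hwP0]
    · exact hwP l (by rw [← hP]; simp [hl, h])
  have hrfP : (rf (f.b P) : Isom Q) = rf w := by
    rw [hwb, rf_smul]
    intro h
    exact hwq ▸ f.two_c |> fun hne => hne (by rw [hwb, h, zero_smul, QuadraticMap.map_zero])
  have hgb : (rf (ap g (f.b P)) : Isom Q) = rf r₁ := by
    rw [← conj_rf, hrfP, conj_rf, hw, ap_ap_inv]
  have hrot : (rf (f.b P) : Isom Q) * rf r₁ ∈ M := by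
    rw [hrfP]
    refine hM _ (rf_mul_mem_omega f.nondeg f.two (hwq ▸ f.two_c) (hr1.trans hwq.symm)) (Mono.mul f ?_ ?_)
    · exact hrfP ▸ f.mono_rf_b P
    · exact hr₁ ▸ mono_rf_add_smul hij (by ring)
  have hroot : ∀ ρ, (∀ l ∈ ({i, j} : Finset (Fin n)), f.co ρ l = 0) → Q ρ ≠ 0 →
      (rf (f.b P) : Isom Q) * rf ρ ∈ M → (f.supp ρ).card ≤ 2 := fun ρ hρ hρ0 hρM => by
    refine supp_le_two_of_mono_rf hρ0 ?_
    have hfix : ap ((rf (f.b P) : Isom Q) * rf ρ) (f.b P') = f.b P' := by
      rw [ap_mul, ap_rf_of_perp (show 𝔅 ρ (f.b P') = 0 by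
        rw [f.polar_b_right, hρ P' (by rw [← hP]; simp), mul_zero]), ap_rf_of_perp (f.orth P P' hPP)]
    have e : (rf ρ : Isom Q) = rf (f.b P) * (rf (f.b P) * rf ρ) := by rw [← mul_assoc, rf_mul_self, one_mul]
    rw [e]
    exact Mono.mul f (f.mono_rf_b P) (mono_of_fix hH hρM hfix)
  have himg : ∀ ρ, (∀ l ∈ ({i, j} : Finset (Fin n)), f.co ρ l = 0) → Q ρ ≠ 0 →
      (rf (f.b P) : Isom Q) * rf ρ ∈ M → (f.supp (ap g ρ)).card ≤ 2 := fun ρ hρ hρ0 hρM => by
    refine hroot _ (hS hc _ hρ) (by rwa [quad_ap]) ?_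
    have e : (rf (f.b P) : Isom Q) * rf (ap g ρ) = (rf (f.b P) * rf r₁) * (g * (rf (f.b P) * rf ρ) * g⁻¹) := by
      rw [show g * (rf (f.b P) * rf ρ) * g⁻¹ = (g * rf (f.b P) * g⁻¹) * (g * rf ρ * g⁻¹) by group, conj_rf,
        conj_rf, hgb, mul_assoc (rf (f.b P)) (rf r₁), ← mul_assoc (rf r₁) (rf r₁), rf_mul_self, one_mul]
    rw [e]
    exact M.mul_mem hrot (M.mul_mem (M.mul_mem hg hρM) hgi)
  have hcol : ∀ m, m ∉ ({i, j} : Finset (Fin n)) → (f.supp (ap g (f.b m))).card = 2 := fun m hm => by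
    have h2 := himg (f.b m) (fun l hl => by rw [f.co_b, if_neg fun e : l = m => hm (e ▸ hl)]) (f.quad_ne m)
      (hM.bb_mem P m)
    by_contra h
    exact hnm (mono_of_supp hH hg (i := m) (by omega))
  have hunion : ∀ m l, m ∉ ({i, j} : Finset (Fin n)) → l ∉ ({i, j} : Finset (Fin n)) → m ≠ l →
      f.supp (ap g (f.b l)) = f.supp (ap g (f.b m)) := fun m l hm hl hml => by
    have hd : Q (f.b m + (-1 : F) • f.b l) = 2 * f.c := quad_add_smul_b hml (by ring)
    have hmem : (rf (f.b P) : Isom Q) * rf (f.b m + (-1 : F) • f.b l) ∈ M := by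
      rw [hrfP]
      refine hM _ (rf_mul_mem_omega f.nondeg f.two (hwq ▸ f.two_c) (hd.trans hwq.symm)) (Mono.mul f ?_ ?_)
      · exact hrfP ▸ f.mono_rf_b P
      · exact mono_rf_add_smul hml (by ring)
    have hdiff := himg _ (fun z hz => by
      rw [map_add, map_smul, Pi.add_apply, Pi.smul_apply, f.co_b, f.co_b, if_neg fun e : z = m => hm (e ▸ hz),
        if_neg fun e : z = l => hl (e ▸ hz)]
      simp) (hd ▸ f.two_c) hmem
    rw [map_add, map_smul, neg_one_smul, ← sub_eq_add_neg] at hdiff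
    have hu := card_union_le_two (by rw [polar_ap]; exact f.orth m l hml) (hcol m hm).le (hcol l hl).le hdiff
    exact (Finset.eq_of_subset_of_card_le Finset.subset_union_right (hu.trans (hcol l hl).ge)).trans
      (Finset.eq_of_subset_of_card_le Finset.subset_union_left (hu.trans (hcol m hm).ge)).symm
  have hkS : k ∈ (Finset.univ : Finset (Fin n)) \ {i, j} := Finset.mem_sdiff.2 ⟨Finset.mem_univ _, hk⟩
  have hle : (f.sub (Finset.univ \ ({i, j} : Finset (Fin n)))).map (ap g) ≤ f.sub (f.supp (ap g (f.b k))) := by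
    rintro _ ⟨x, hx, rfl⟩
    rw [← f.vec_co x, f.vec_apply, map_sum]
    refine Submodule.sum_mem _ fun m _ => ?_
    rw [map_smul]
    by_cases hm : m ∈ Finset.univ \ ({i, j} : Finset (Fin n))
    · refine Submodule.smul_mem _ _ fun z hz => f.notMem_supp.1 ?_
      rcases eq_or_ne k m with rfl | hne
      · exact hz
      · rw [hunion k m hk (Finset.mem_sdiff.1 hm).2 hne]
        exact hz
    · rw [hx m hm, zero_smul]
      exact Submodule.zero_mem _
  have hfin := Submodule.finrank_mono hle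
  rw [← (Submodule.equivMapOfInjective _ (ap_injective g) _).finrank_eq, f.finrank_sub, f.finrank_sub,
    hcol k hk] at hfin
  omega

end Frame

end CfsgLib.OrthMono
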